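import Cfsg.Agent.TwoF.DC.Pow.One

/-!
# TwoF, defining characteristic, TH3c (5): field automorphisms, `BoxPow` (helper33)
-/

set_option autoImplicit false
set_option linter.unusedSectionVars false
set_option linter.unusedVariables false
set_option maxHeartbeats 400000

namespace Cfsg.Agent.TwoF.DC.Pw

open Module Finset Cfsg.Agent.H45.Uni Cfsg.Agent.H45.UniE Cfsg.Agent.TwoF.Gen

section gen

variable {p : ℕ} {ι Φ k G L : Type} [Fintype ι] [DecidableEq ι] [Fintype Φ] [DecidableEq Φ] [Field k] [Group G]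
  [AddCommGroup L] [Module k L] {D : RDat p ι Φ k G}

theorem op_eig {R : RC ι Φ} (H : HW R p k L) {u : Φ → k} {F : L} {c : k} (h : H.op u F = c • F) : H.op u F = 0 := by
  by_contra h0
  have hF : F ≠ 0 := fun e => h0 (by rw [e, map_zero])
  have hc : c ≠ 0 := fun e => h0 (by rw [h, e, zero_smul])
  obtain ⟨φ, -, hφ⟩ := R.exists_pos_generic
  obtain ⟨t, h1, h2⟩ := H.idm.exists_low (H.lf φ) hF
  have h3 := H.ge_op φ (t := 1) (u := u) ((cmem_F _).2 fun b hb => by have := hφ b; omega) t F h1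
  have h4 := H.idm.P_eq_zero (H.lf φ) h3
  rw [h, map_smul] at h4
  exact h2 ((smul_eq_zero.1 h4).resolve_left hc)

theorem pow_lev {H : HW D.R p k L} (r : H.Rep D) {g g' Ξ : Module.End k L} (hg : H.Lev g) {u : G} (hu : u ∈ D.U)
    (h1 : Ξ * (r.ρ u * g) = 1) (h2 : Ξ ^ p = 1) (h3 : g * g' = 1) : g' ^ p = 1 := by
  have h4 : H.idm.Hm (H.lf D.hf) 0 g := H.hm_of_w fun μ hμ v hv => by
    obtain ⟨c, h2, h3⟩ := hg (H.dep μ) v (by rw [H.dep_spec hμ] at hv; exact hv)
    exact ⟨H.lz - D.R.toWt c, h2, by rw [HW.lf, HW.lf, H.dep_eq (c := c) rfl, add_zero]; exact congrArg Neg.neg h3⟩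
  have h5 : H.idm.Ld (H.lf D.hf) 0 (r.ρ u * g) g := by
    refine ⟨h4, ?_⟩
    rw [← sub_one_mul]
    exact ((r.ge_Uge (D.U_le_Uge hu)).mul h4.ge).mono (by simp)
  have h6 := h5.pow p
  have h7 := pow_mul_pow_eq_one p h1
  rw [h2, one_mul] at h7
  rw [h7, mul_zero] at h6
  have h8 := pow_mul_pow_eq_one p h3
  rwa [h6.unique Idm.hm_one.ld, one_mul] at h8

theorem exists_lead_ne {x : G} (hx : x ∈ D.U) (h1 : x ≠ 1) : ∃ e v, D.Lead x e v ∧ v ≠ 0 := by
  by_contra h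
  push Not at h
  have h2 : ∀ e, x ∈ D.Uge (e + 1) := fun e => by
    induction e with
    | zero => exact D.U_le_Uge hx
    | succ e ih =>
      obtain ⟨v, hv⟩ := RDat.exists_lead ih
      have h3 := (RDat.lead_iff.1 hv).2
      rwa [h _ v hv, D.pz_zero, inv_one, one_mul] at h3
  obtain ⟨N, hN⟩ := D.exists_Uge_bot
  exact h1 (Subgroup.mem_bot.1 (hN.le (D.Uge_anti (Nat.le_succ N) (h2 N))))

theorem ker_le_of_inv {V : Type} [AddCommGroup V] [Module k V] {a b : Module.End k V} (h : a * b = 1) :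
    LinearMap.ker (b - 1) ≤ LinearMap.ker (a - 1) := fun v hv => by
  rw [LinearMap.mem_ker, LinearMap.sub_apply, sub_eq_zero] at hv ⊢
  exact (congrArg a hv).symm.trans (DFunLike.congr_fun h v)

theorem neck_abs [hp : Fact p.Prime] {W : Type} [AddCommGroup W] [Module k W] [FiniteDimensional k W] {J : Type}
    [Fintype J] [DecidableEq J] {d : J → ℕ} {w : (∀ x : ZMod p × J, Fin (d x.2)) → W} (h1 : LinearIndependent k w)
    (h2 : finrank k W = (∏ a, d a) ^ p) {Γ : Module.End k W} (hΓ : ∀ I, Γ (w I) = w fun y => I (y.1 - 1, y.2)) :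
    p * finrank k (LinearMap.ker (Γ - 1)) + ∏ a, d a ≤ (∏ a, d a) ^ p + p * ∏ a, d a := by
  have h3 : Fintype.card (∀ x : ZMod p × J, Fin (d x.2)) = finrank k W := by
    rw [h2, Fintype.card_pi, Fintype.prod_prod_type]
    simp [ZMod.card]
  let π : (∀ x : ZMod p × J, Fin (d x.2)) → ∀ x : ZMod p × J, Fin (d x.2) := fun I y => I (y.1 - 1, y.2)
  have key : ∀ (I : ∀ x : ZMod p × J, Fin (d x.2)) (a : J) {m m' : ZMod p}, m = m' →
      @Eq (Fin (d a)) (I (m, a)) (I (m', a)) := by rintro I a m _ rfl; rfl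
  have h4 : ∀ (r : ℕ) I, π^[r] I = fun y : ZMod p × J => I (y.1 - r, y.2) := fun r => by
    induction r with
    | zero =>
      exact fun I => funext fun y => key I y.2 (show y.1 = y.1 - ((0 : ℕ) : ZMod p) by simp)
    | succ r ih =>
      intro I
      rw [Function.iterate_succ_apply, ih]
      exact funext fun y => key I y.2
        (show y.1 - (r : ZMod p) - 1 = y.1 - ((r + 1 : ℕ) : ZMod p) by push_cast; ring)
  rw [← h2, ← h3]
  refine necklace (basisOfLinearIndependentOfCardEqFinrank' w h1 h3) (π := π) (fun I => ?_) (fun I => ?_) ?_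
  · rw [h4]
    exact funext fun y => key I y.2 (show y.1 - ((p : ℕ) : ZMod p) = y.1 by simp)
  · rw [coe_basisOfLinearIndependentOfCardEqFinrank']
    exact hΓ I
  · refine (Nat.card_le_card_of_injective (β := ∀ a : J, Fin (d a))
      (fun I a => I.1 (0, a)) fun I J e => Subtype.ext (funext fun y => ?_)).trans (by simp)
    have h5 : ∀ I, π I = I → I y = I (0, y.2) := fun I hI =>
      (congrFun (Function.iterate_fixed hI y.1.val) y).symm.trans ((congrFun (h4 _ I) y).trans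
        (key I y.2 (show y.1 - ((y.1.val : ℕ) : ZMod p) = 0 by simp)))
    exact (h5 _ I.2).trans ((congrFun e y.2).trans (h5 _ J.2).symm)

end gen

variable {p : ℕ} [hp : Fact p.Prime] {α ι Φ k G : Type} [Fintype α] [DecidableEq α] [Fintype ι] [DecidableEq ι]
  [Fintype Φ] [DecidableEq Φ] [Field k] [IsAlgClosed k] [CharP k p] [Group G] {D : RDat p ι Φ k G} (C : Can D)

section op

variable {n : α → ι → ℕ} (hn : ∀ a i, n a i < p) (P : PMod D n)

theorem PMod.E_pf {F : α → G → k} (hF : ∀ a, F a ∈ Lc D (n a)) (c : α) (b : Φ) :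
    (P.H.E (true, (c, b)) 1 ⟨pf F, pf_mem_cw C hn hF⟩).1 =
      pf (Function.update F c (Eo C (n c) (hn c) b ⟨F c, hF c⟩).1) := by
  funext g
  have h1 : slL C hn c g ⟨pf F, pf_mem_cw C hn hF⟩ = (∏ a ∈ univ.erase c, F a (g a)) • ⟨F c, hF c⟩ :=
    Subtype.ext (sl_pf F c g)
  refine (sl_self c g _).symm.trans ?_
  rw [← slL_coe C hn, P.slL_E C hn, h1, map_smul, pf_eq _ c, Function.update_self,
    Finset.prod_congr rfl fun a ha => congrFun (Function.update_of_ne (Finset.ne_of_mem_erase ha) _ F) (g a)]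
  rfl

theorem PMod.op_ne {F : α → G → k} (hF : ∀ a, F a ∈ Lc D (n a)) (hF0 : ∀ a, F a ≠ 0) (v : α × Φ → k) {a : α}
    (h0 : n a ≠ 0) (h : (C.H (n a) (hn a) h0).op (fun b => v (a, b)) ⟨F a, hF a⟩ ≠ 0) :
    P.H.op v ⟨pf F, pf_mem_cw C hn hF⟩ ≠ 0 := by
  intro h1
  choose g hg using fun a => Function.ne_iff.1 (hF0 a)
  have hκ : ∏ c ∈ univ.erase a, F c (g c) ≠ 0 := Finset.prod_ne_zero_iff.2 fun c _ => hg c
  have h2 := congrArg (slL C hn a g) h1
  rw [map_zero, HW.op, LinearMap.sum_apply, map_sum, Fintype.sum_prod_type,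
    ← Finset.add_sum_erase _ _ (mem_univ a)] at h2
  have h3 : ∑ b, slL C hn a g ((v (a, b) • P.H.E (true, (a, b)) 1) ⟨pf F, pf_mem_cw C hn hF⟩) =
      (∏ c ∈ univ.erase a, F c (g c)) • (C.H (n a) (hn a) h0).op (fun b => v (a, b)) ⟨F a, hF a⟩ := by
    have h4 : slL C hn a g ⟨pf F, pf_mem_cw C hn hF⟩ = (∏ c ∈ univ.erase a, F c (g c)) • ⟨F a, hF a⟩ :=
      Subtype.ext (sl_pf F a g)
    rw [← map_smul, ← h4, HW.op, LinearMap.sum_apply]
    exact Finset.sum_congr rfl fun b _ => by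
      rw [LinearMap.smul_apply, LinearMap.smul_apply, map_smul, P.slL_E C hn, Eo_ne C _ h0]
  have h4 : ∑ c ∈ univ.erase a, ∑ b, slL C hn a g ((v (c, b) • P.H.E (true, (c, b)) 1) ⟨pf F, pf_mem_cw C hn hF⟩) ∈
      Submodule.span k {(⟨F a, hF a⟩ : Lc D (n a))} := by
    refine Submodule.sum_mem _ fun c hc => Submodule.sum_mem _ fun b _ => ?_
    rw [LinearMap.smul_apply, map_smul]
    refine Submodule.smul_mem _ _ (Submodule.mem_span_singleton.2 ⟨∏ c' ∈ univ.erase a,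
      Function.update F c (Eo C (n c) (hn c) b ⟨F c, hF c⟩).1 c' (g c'), Subtype.ext ?_⟩)
    rw [slL_coe, P.E_pf C hn hF, sl_pf, Function.update_of_ne (Finset.ne_of_mem_erase hc).symm]
    rfl
  obtain ⟨e, he⟩ := Submodule.mem_span_singleton.1 h4
  rw [h3, ← he] at h2
  refine h (op_eig _ (c := (∏ c ∈ univ.erase a, F c (g c))⁻¹ * -e) ?_)
  rw [mul_smul, neg_smul, ← eq_neg_of_add_eq_zero_left h2, inv_smul_smul₀ hκ]

end op

variable {T S : Type} [Group T] [Finite T] [Group S] (M : Std D T S)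

theorem aut_aut (γ : M.Gr) {γ' : M.Gr} (hγ : Commute γ' M.σ) (j j' : ℕ) (h : Fin M.f → G) :
    M.aut γ j (M.aut γ' j' h) = M.aut (γ * γ') (j + j') h := by
  funext a
  have h1 : (a + (j + j')) / M.f = (a + j) / M.f + (M.pos (a + j) + j') / M.f := by
    have h2 : a + (j + j') = (a + j) % M.f + j' + M.f * ((a + j) / M.f) := by
      have := Nat.mod_add_div (a + j) M.f
      omega
    rw [h2, Nat.add_mul_div_left _ _ M.f_pos, add_comm]
    rfl
  rw [M.aut_apply, M.aut_apply, M.aut_apply, ← M.gr_mul, M.pos_pos_add, h1, add_assoc, add_comm _ (_ / M.f), pow_add,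
    mul_inv_rev, mul_assoc, mul_assoc, ← mul_assoc _ γ', ← (hγ.pow_right _).inv_right.eq, mul_assoc]

theorem lead_all (hF : C.Fa) {x : T} (hx : x ∈ M.E.U) (h1 : x ≠ 1) :
    ∃ e v, (pw (Fin M.f) D).Lead (M.ΦT x) e v ∧ ∀ c, ∃ b, v (c, b) ≠ 0 := by
  obtain ⟨e, v, hv, h0⟩ := exists_lead_ne (ΦT_U M hx) fun h => h1 (ΦT_inj M (h.trans (map_one _).symm))
  refine ⟨e, v, hv, fun c => ?_⟩
  have h2 := (boxDeg1 p _ _ k _ (pw (Fin M.f) D)).fix (fa_pw C hF) 1 _ _ _ (Th_Tw M) 1 (one_mem _) _ (ΦT_U M hx)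
    (by rw [Th_ΦT, one_mul, inv_one, mul_one]) e v hv
  obtain ⟨⟨c0, b0⟩, h3⟩ := Function.ne_iff.1 h0
  have h4 : ∀ r, ∃ b, v (M.pos (c0 + r), b) ≠ 0 := fun r => by
    induction r with
    | zero => exact ⟨b0, by rwa [add_zero, M.pos_val]⟩
    | succ r ih =>
      obtain ⟨b, hb⟩ := ih
      have h5 : (M.rot (M.f - 1)).symm (M.pos (c0 + r)) = M.pos (c0 + (r + 1)) := by
        rw [Equiv.symm_apply_eq, M.rot_apply, M.pos_pos_add, ← M.pos_add_mul (c0 + r) 1]
        congr 1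
        have := M.f_pos
        omega
      rw [← h5]
      exact ⟨_, (h2 (M.pos (c0 + r), b)).trans_ne (mul_ne_zero (Units.ne_zero _) (pow_ne_zero _ hb))⟩
  have h5 := h4 (M.f - c0 + c)
  rwa [show (c0 : ℕ) + (M.f - c0 + c) = c + M.f * 1 by have := c0.2; omega, M.pos_add_mul, M.pos_val] at h5

/-- the twisting operator -/
noncomputable def Xo {γ : M.Gr} {j : ℕ} {n : Fin M.f → ι → ℕ} (h : M.act γ j n = n) (x : Fin M.f → G) :
    Module.End k (Tr (cw D n)) := (M.XiE γ j x h).toLinearMap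

/-- its inverse -/
noncomputable def Xv {γ : M.Gr} {j : ℕ} {n : Fin M.f → ι → ℕ} (h : M.act γ j n = n) : Module.End k (Tr (cw D n)) :=
  (M.XiE γ j 1 h).symm.toLinearMap

theorem Xo_coe {γ : M.Gr} {j : ℕ} {n : Fin M.f → ι → ℕ} (h : M.act γ j n = n) (x : Fin M.f → G) (F : Tr (cw D n)) :
    (Xo M h x F).1 = Xi (M.aut γ j) x F.1 := rfl

theorem Xo_Xv {γ : M.Gr} {j : ℕ} {n : Fin M.f → ι → ℕ} (h : M.act γ j n = n) (F : Tr (cw D n)) :
    Xo M h 1 (Xv M h F) = F := (M.XiE γ j 1 h).apply_symm_apply F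

theorem Xv_Xo {γ : M.Gr} {j : ℕ} {n : Fin M.f → ι → ℕ} (h : M.act γ j n = n) (F : Tr (cw D n)) :
    Xv M h (Xo M h 1 F) = F := (M.XiE γ j 1 h).symm_apply_apply F

/-- the permutation of the nodes -/
noncomputable def θι (γ : M.Gr) (j : ℕ) : Equiv.Perm (Fin M.f × ι) :=
  Equiv.prodShear (M.rot j).symm fun c => M.gι (dl M γ j ((M.rot j).symm c))

theorem PMod.lev {n : Fin M.f → ι → ℕ} (P : PMod D n) {γ : M.Gr} {j : ℕ} (h : M.act γ j n = n) :
    P.H.Lev (Xv M h) := by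
  refine P.H.lev_of_sym (γ := θι M γ j) ?_ ?_ ?_ fun μ v hv =>
    P.r.tw_w P.r (α := M.aut γ j) (g := Xv M h) ?_ ?_ ?_ hv
  · rintro ⟨a, i⟩ ⟨c, l⟩
    show (if (M.rot j).symm a = (M.rot j).symm c then D.R.C (M.gι _ i) (M.gι _ l) else 0) = if a = c then D.R.C i l else 0
    by_cases hc : a = c
    · subst hc; rw [if_pos rfl, if_pos rfl, M.C_gr]
    · rw [if_neg hc, if_neg fun e => hc ((M.rot j).symm.injective e)]
  · rintro ⟨a, i⟩
    exact M.ht_zi_gr _ _
  · rw [P.lam]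
    funext x
    obtain ⟨a, i⟩ := x
    show n (M.rot j a) ((M.gι (dl M γ j ((M.rot j).symm (M.rot j a)))).symm i) = n a i
    conv_rhs => rw [← h, M.act_apply']
    rw [Equiv.symm_apply_apply, M.gι_symm, dl, mul_inv_rev, inv_inv]
    rfl
  · rintro ⟨a, i⟩ t
    rw [pw_x, aut_ms, M.gr_x]
    rfl
  · rintro ⟨a, i⟩ t
    rw [pw_y, aut_ms, M.gr_y]
    rfl
  · intro x v
    rw [← Xo_Xv M h v, Xv_Xo, ← Xv_Xo M h (P.r.ρ _ (Xv M h v)), P.ρ_eq]
    refine congrArg (Xv M h) (Subtype.ext (funext fun g => ?_))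
    show (Xv M h v).1 (M.aut γ j (g * x) * 1⁻¹) = (Xv M h v).1 (M.aut γ j g * 1⁻¹ * M.aut γ j x)
    rw [map_mul, inv_one, mul_one, mul_one]

section neck

variable {j : ℕ} (hf : M.f = p * j)

include hf in
theorem ps_lt (x : ZMod p × Fin j) : x.2 + j * x.1.val < M.f := by
  have h1 : j * (x.1.val + 1) ≤ j * p := Nat.mul_le_mul_left _ (ZMod.val_lt x.1)
  have h2 := x.2.2
  rw [hf, mul_comm p]
  linarith

/-- the windows -/
noncomputable def ps : ZMod p × Fin j ≃ Fin M.f :=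
  Equiv.ofBijective (fun x => ⟨x.2 + j * x.1.val, ps_lt M hf x⟩) ((Fintype.bijective_iff_injective_and_card _).2
    ⟨fun x y h => by
      have h1 : x.2 + j * x.1.val = y.2 + j * y.1.val := congrArg Fin.val h
      have h2 := congrArg (· % j) h1
      simp only [Nat.add_mul_mod_self_left, Nat.mod_eq_of_lt x.2.2, Nat.mod_eq_of_lt y.2.2] at h2
      rw [h2] at h1
      exact Prod.ext (ZMod.val_injective p (Nat.eq_of_mul_eq_mul_left x.2.pos (Nat.add_left_cancel h1))) (Fin.ext h2),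
    by simp [hf, ZMod.card]⟩)

theorem ps_val (x : ZMod p × Fin j) : (ps M hf x : ℕ) = x.2 + j * x.1.val := rfl

theorem ps_step (γ : M.Gr) (m : ZMod p) (a : Fin j) : M.pos (ps M hf (m, a) + j) = ps M hf (m + 1, a) ∧
    (γ ^ m.val * dl M γ j (ps M hf (m, a)) = γ ^ (m + 1).val ∨
      γ ^ m.val * dl M γ j (ps M hf (m, a)) = γ ^ p * M.σ⁻¹ ∧ (m + 1).val = 0) := by
  have h1 : (m + 1).val = (m.val + 1) % p := by rw [ZMod.val_add, ZMod.val_one]
  rcases (Nat.succ_le_of_lt (ZMod.val_lt m)).eq_or_lt with h | h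
  · have h2 : (ps M hf (m, a) : ℕ) + j = a + M.f * 1 := by
      have h0 : j * (m.val + 1) = j * p := congrArg (j * ·) h
      rw [ps_val, hf]
      dsimp only
      linarith
    have h3 : (m + 1).val = 0 := by rw [h1, ← Nat.succ_eq_add_one, h, Nat.mod_self]
    have h4 : (a : ℕ) < M.f := lt_of_le_of_lt (Nat.le_add_right _ _) (ps_lt M hf (m, a))
    refine ⟨Fin.ext ?_, Or.inr ⟨?_, h3⟩⟩
    · rw [h2, M.pos_add_mul, ps_val, h3]
      exact Nat.mod_eq_of_lt h4
    · rw [dl, h2, Nat.add_mul_div_left _ _ M.f_pos, Nat.div_eq_of_lt h4, zero_add, pow_one, ← mul_assoc, ← pow_succ,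
        ← Nat.succ_eq_add_one, h]
  · rw [Nat.mod_eq_of_lt (show m.val + 1 < p from h)] at h1
    have h2 : (ps M hf (m, a) : ℕ) + j = ps M hf (m + 1, a) := by
      rw [ps_val, ps_val, h1]; ring
    refine ⟨by rw [h2, M.pos_val], Or.inl ?_⟩
    rw [dl, h2, Nat.div_eq_of_lt (ps M hf _).2, pow_zero, inv_one, mul_one, h1, pow_succ]

variable {γ : M.Gr} (hγ : Commute γ M.σ) {n : Fin M.f → ι → ℕ} (hn : ∀ a i, n a i < p) (h : M.act γ j n = n)

include hγ h in
theorem n_ps (x : ZMod p × Fin j) : n (ps M hf x) = n (ps M hf (0, x.2)) ∘ M.gι (γ ^ x.1.val) := by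
  have h1 : ∀ m r, M.ext n (m + j * r) = M.ext n m ∘ M.gι (γ ^ r) := fun m r => by
    induction r with
    | zero => rw [mul_zero, add_zero, pow_zero, M.comp_gι_one]
    | succ r ih =>
      have h2 := M.ext_act hγ j n (m + j * r)
      rw [h] at h2
      rw [pow_succ, M.comp_gι_mul, ← ih, h2, ← M.comp_gι_mul, inv_mul_cancel, M.comp_gι_one, mul_add, mul_one, add_assoc]
  rw [← M.ext_val n (ps M hf x), ← M.ext_val n (ps M hf _), ps_val, ps_val, ← h1, ZMod.val_zero, mul_zero, add_zero]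

/-- product functions along the windows -/
noncomputable def wv (γ : M.Gr) (F : ZMod p × Fin j → G → k) : (Fin M.f → G) → k :=
  pf fun c => F ((ps M hf).symm c) ∘ M.gr (γ ^ ((ps M hf).symm c).1.val)

theorem wv_apply (γ : M.Gr) (F : ZMod p × Fin j → G → k) (g : Fin M.f → G) :
    wv M hf γ F g = ∏ x, F x (M.gr (γ ^ x.1.val) (g (ps M hf x))) := by
  rw [wv, pf_apply, ← (ps M hf).prod_comp]
  exact Finset.prod_congr rfl fun x _ => by rw [Equiv.symm_apply_apply]; rfl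

include hγ h in
theorem wv_mem {F : ZMod p × Fin j → G → k} (hF : ∀ x, F x ∈ Lc D (n (ps M hf (0, x.2)))) (c : Fin M.f) :
    F ((ps M hf).symm c) ∘ M.gr (γ ^ ((ps M hf).symm c).1.val) ∈ Lc D (n c) := by
  have h1 := comp_mem_Tr (M.gr (γ ^ ((ps M hf).symm c).1.val)) (hF ((ps M hf).symm c))
  rwa [M.cc_gr, ← n_ps M hf hγ h, Equiv.apply_symm_apply] at h1

include hγ in
theorem XiE_pow (r : ℕ) (F : Tr (cw D n)) (g : Fin M.f → G) :
    ((Xo M h 1 ^ r) F).1 g = F.1 (M.aut (γ ^ r) (r * j) g) := by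
  induction r generalizing F with
  | zero =>
    rw [pow_zero, pow_zero, zero_mul, Module.End.one_apply]
    refine congrArg F.1 (funext fun a => ?_)
    rw [M.aut_apply, add_zero, Nat.div_eq_of_lt a.2, pow_zero, inv_one, mul_one, M.pos_val, M.gr_one]
  | succ r ih =>
    rw [pow_succ, Module.End.mul_apply, ih, pow_succ', add_mul, one_mul, add_comm, ← aut_aut M γ (hγ.pow_left r)]
    rw [Xo_coe, Xi_apply, inv_one, mul_one]

variable (hΓ : Xo M h 1 ^ p = 1)

include C hf hγ hn hΓ in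
theorem gr_triv (c : Fin M.f) {F : G → k} (hF : F ∈ Lc D (n c)) (y : G) : F (M.gr (γ ^ p * M.σ⁻¹) y) = F y := by
  obtain ⟨w, hw⟩ := exists_slL C hn c ⟨F, hF⟩
  have h1 : sl c 1 w.1 = F := congrArg Subtype.val hw
  have h2 := XiE_pow M hγ h p w (Function.update 1 c y)
  rw [hΓ, ← hf] at h2
  rw [← h1, sl_apply, sl_apply]
  refine Eq.trans (congrArg w.1 (funext fun a => ?_)) h2.symm
  have h3 : (a : ℕ) + M.f = a + M.f * 1 := by rw [mul_one]
  rw [M.aut_apply, h3, M.pos_add_mul, M.pos_val, Nat.add_mul_div_left _ _ M.f_pos, Nat.div_eq_of_lt a.2, zero_add,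
    pow_one]
  by_cases ha : a = c
  · rw [ha, Function.update_self, Function.update_self]
  · rw [Function.update_of_ne ha, Function.update_of_ne ha, Pi.one_apply, map_one]

include C hγ hn hΓ in
theorem Xi_wv {F : ZMod p × Fin j → G → k} (hF : ∀ x, F x ∈ Lc D (n (ps M hf (0, x.2)))) :
    Xi (M.aut γ j) 1 (wv M hf γ F) = wv M hf γ fun y => F (y.1 - 1, y.2) := by
  funext g
  rw [Xi_apply, inv_one, mul_one, wv_apply, wv_apply,
    ← Equiv.prod_comp (Equiv.prodCongr (Equiv.addRight (1 : ZMod p)) (Equiv.refl (Fin j)))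
      fun y => F (y.1 - 1, y.2) (M.gr (γ ^ y.1.val) (g (ps M hf y)))]
  refine Finset.prod_congr rfl ?_
  rintro ⟨m, a⟩ -
  obtain ⟨h1, h2⟩ := ps_step M hf γ m a
  show F (m, a) (M.gr _ (M.gr (dl M γ j _) (g (M.pos _)))) =
    F (m + 1 - 1, a) (M.gr (γ ^ (m + 1).val) (g (ps M hf (m + 1, a))))
  rw [add_sub_cancel_right, h1, ← M.gr_mul]
  rcases h2 with h2 | ⟨h2, h3⟩
  · rw [h2]
  · rw [h2, h3, pow_zero, M.gr_one]
    exact gr_triv C M hf hγ hn h hΓ _ (hF (m, a)) _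

include hf in
theorem prod_filter (w : Fin M.f → ℕ) :
    ∏ a ∈ univ.filter (fun a : Fin M.f => (a : ℕ) < j), w a = ∏ a : Fin j, w (ps M hf (0, a)) := by
  symm
  have h1 : ∀ a : Fin j, (ps M hf (0, a) : ℕ) = a := fun a => by rw [ps_val, ZMod.val_zero, mul_zero, add_zero]
  refine Finset.prod_bij (fun a _ => ps M hf (0, a)) (fun a _ => mem_filter.2 ⟨mem_univ _, by rw [h1]; exact a.2⟩)
    (fun a _ a' _ e => congrArg Prod.snd ((ps M hf).injective e)) (fun c hc => ?_) fun _ _ => rfl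
  exact ⟨⟨c, (mem_filter.1 hc).2⟩, mem_univ _, Fin.ext (h1 _)⟩

include C hγ hn h in
theorem finrank_neck : finrank k (Tr (cw D n)) = (∏ a : Fin j, dd D (n (ps M hf (0, a)))) ^ p := by
  refine (finrank_cw C hn).trans ?_
  rw [← (ps M hf).prod_comp, Finset.prod_congr rfl fun x _ => by rw [n_ps M hf hγ h x, M.dd_comp],
    Fintype.prod_prod_type]
  simp [ZMod.card]

theorem wv_indep {β : ZMod p × Fin j → Type} [∀ x, Fintype (β x)] {v : ∀ x, β x → G → k}
    (hv : ∀ x, LinearIndependent k (v x)) : LinearIndependent k fun I : ∀ x, β x => wv M hf γ fun x => v x (I x) := by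
  have h2 := (pf_indep (v := fun x i => v x i ∘ M.gr (γ ^ x.1.val)) fun x =>
    (hv x).map' (LinearMap.funLeft k k (M.gr (γ ^ x.1.val)))
      (LinearMap.ker_eq_bot.2 (LinearMap.funLeft_injective_of_surjective _ _ _ (M.gr _).surjective))).map'
    (LinearMap.funLeft k k fun (g : Fin M.f → G) x => g (ps M hf x))
    (LinearMap.ker_eq_bot.2 (LinearMap.funLeft_injective_of_surjective _ _ _ fun g =>
      ⟨fun c => g ((ps M hf).symm c), funext fun x => by simp⟩))
  have h3 : (fun I : ∀ x, β x => wv M hf γ fun x => v x (I x)) =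
      LinearMap.funLeft k k (fun (g : Fin M.f → G) x => g (ps M hf x)) ∘
        fun I : ∀ x, β x => pf fun x => v x (I x) ∘ M.gr (γ ^ x.1.val) :=
    funext fun I => funext fun g => wv_apply M hf γ _ g
  rw [h3]
  exact h2

include C hγ hn hΓ in
theorem neck_le : p * finrank k (LinearMap.ker (Xo M h 1 - 1)) + ∏ a : Fin j, dd D (n (ps M hf (0, a))) ≤
    (∏ a : Fin j, dd D (n (ps M hf (0, a)))) ^ p + p * ∏ a : Fin j, dd D (n (ps M hf (0, a))) := by
  have hfd := fun a => fd_Lc C (hn a)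
  have := fd_cw C hn
  have b : ∀ a : Fin j, Basis (Fin (dd D (n (ps M hf (0, a))))) k (Lc D (n (ps M hf (0, a)))) := fun a =>
    Module.finBasis k _
  refine neck_abs (d := fun a => dd D (n (ps M hf (0, a)))) (w := fun I => ⟨wv M hf γ fun x => b x.2 (I x),
    pf_mem_cw C hn (wv_mem M hf hγ h fun x => (b x.2 (I x)).2)⟩) ?_ (finrank_neck C M hf hγ hn h) fun I =>
      Subtype.ext (Xi_wv C M hf hγ hn h hΓ fun x => (b x.2 (I x)).2)
  exact LinearIndependent.of_comp (Tr (cw D n)).subtype (wv_indep M hf (v := fun x i => (b x.2 i : G → k)) fun x =>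
    (b x.2).linearIndependent.map' _ (Submodule.ker_subtype _))

include hf hγ hn hΓ in
theorem exists_fixed (P : PMod D n) (h0 : n ≠ 0) (hfa : ∀ a h h0 b, (C.H (n a) h h0).E (true, b) 1 ≠ 0)
    {v : Fin M.f × Φ → k} (hv : ∀ c, ∃ b, v (c, b) ≠ 0) :
    ∃ w ∈ LinearMap.ker (Xo M h 1 - 1), P.H.op v w ≠ 0 := by
  obtain ⟨c, hc⟩ := Function.ne_iff.1 h0
  obtain ⟨⟨m, a⟩, rfl⟩ := (ps M hf).surjective c
  have h1 : n (ps M hf (0, a)) ≠ 0 := fun e => hc (by rw [n_ps M hf hγ h, e]; rfl)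
  obtain ⟨b, hb⟩ := hv (ps M hf (0, a))
  obtain ⟨F, hF⟩ : ∃ F, (C.H _ (hn _) h1).op (fun b => v (ps M hf (0, a), b)) F ≠ 0 := by
    by_contra h2
    push Not at h2
    exact hb ((C.H _ (hn _) h1).coeff_eq_zero (LinearMap.ext h2) (hfa _ _ _ b))
  let F' : ZMod p × Fin j → G → k := fun x =>
    Function.update (fun a' : Fin j => D.toFDat.cc (n (ps M hf (0, a')))) a F.1 x.2
  have h2 : ∀ x, F' x ∈ Lc D (n (ps M hf (0, x.2))) := fun x => by
    by_cases hx : x.2 = a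
    · simp only [F', hx, Function.update_self]; exact F.2
    · simp only [F', Function.update_of_ne hx]; exact self_mem_Tr _
  have h3 : ∀ x, F' x ≠ 0 := fun x => by
    by_cases hx : x.2 = a
    · simp only [F', hx, Function.update_self]
      exact fun e => hF (by rw [show F = 0 from Subtype.ext e, map_zero])
    · simp only [F', Function.update_of_ne hx]
      exact fun e => one_ne_zero ((D.toFDat.cc_one _).symm.trans (congrFun e 1))
  refine ⟨⟨wv M hf γ F', pf_mem_cw C hn (wv_mem M hf hγ h h2)⟩, ?_, P.op_ne C hn (wv_mem M hf hγ h h2)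
    (fun c e => h3 ((ps M hf).symm c) (funext fun y => ?_)) v h1 ?_⟩
  · rw [LinearMap.mem_ker, LinearMap.sub_apply, sub_eq_zero]
    exact Subtype.ext (Xi_wv C M hf hγ hn h hΓ h2)
  · obtain ⟨y, rfl⟩ := (M.gr (γ ^ ((ps M hf).symm c).1.val)).surjective y
    exact congrFun e y
  · convert hF using 2
    refine Subtype.ext (funext fun y => ?_)
    simp only [F', Equiv.symm_apply_apply, Function.update_self, ZMod.val_zero, pow_zero, Function.comp_apply, M.gr_one]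

end neck

theorem field (γ : M.Gr) (j : ℕ) (hγ : Commute γ M.σ) (hf : M.f = p * j) (n : Fin M.f → ι → ℕ) (hn : n ∈ M.pats)
    (h0 : n ≠ 0) (h : M.act γ j n = n) (hfa : ∀ a h h0 b, (C.H (n a) h h0).E (true, b) 1 ≠ 0) (u : T) (hu : u ∈ M.E.U)
    (hpow : ∀ F ∈ M.Wc n, (Xi (M.aut γ j) (M.ΦT u) ^ p) F = F) (B : Subgroup T) (hB : B ≤ M.E.U) (E : ℕ)
    (hE : E = ∏ a ∈ Finset.univ.filter (fun a : Fin M.f => (a : ℕ) < j), dd D (n a)) :
    finrank k (M.Wc n) = E ^ p ∧ p * finrank k (M.fxX n B u γ j) + E ≤ E ^ p + p * E ∧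
      (B ≠ ⊥ → p * (finrank k (M.fxX n B u γ j) + 1) + E ≤ E ^ p + p * E) := by
  rw [M.mem_pats] at hn
  rw [prod_filter M hf fun a => dd D (n a)] at hE
  subst hE
  obtain ⟨P⟩ := exists_pmod (D := D) hn h0
  have hfd := fd_cw C hn
  have e1 : Xo M h (M.ΦT u) * (P.r.ρ (M.ΦT u) * Xv M h) = 1 := by
    refine LinearMap.ext fun v => ?_
    rw [P.ρ_eq, Module.End.one_apply]
    conv_rhs => rw [← Xo_Xv M h v]
    refine Subtype.ext (funext fun g => ?_)
    show (Xv M h v).1 (M.aut γ j g * (M.ΦT u)⁻¹ * M.ΦT u) = (Xv M h v).1 (M.aut γ j g * 1⁻¹)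
    rw [inv_mul_cancel_right, inv_one, mul_one]
  have e2 : Xo M h (M.ΦT u) ^ p = 1 := by
    have h1 : ∀ (r : ℕ) (v : Tr (cw D n)), ((Xo M h (M.ΦT u) ^ r) v).1 = (Xi (M.aut γ j) (M.ΦT u) ^ r) v.1 := fun r => by
      induction r with
      | zero => exact fun v => rfl
      | succ r ih => exact fun v => by rw [pow_succ, pow_succ, Module.End.mul_apply, Module.End.mul_apply, ih, Xo_coe]
    exact LinearMap.ext fun v => Subtype.ext ((h1 p v).trans (hpow _ v.2))
  have e3 : Xv M h * Xo M h 1 = 1 := LinearMap.ext (Xv_Xo M h)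
  have e4 : Xo M h 1 * Xv M h = 1 := LinearMap.ext (Xo_Xv M h)
  have hΓ := pow_lev P.r (P.lev M h) (ΦT_U M hu) e1 e2 e3
  have h1 := neck_le C M hf hγ hn h hΓ
  have h2 : finrank k (M.fxX n B u γ j) ≤ finrank k ↥(P.H.kerOp ((pw (Fin M.f) D).ld (B.map M.ΦT)) ⊓
      LinearMap.ker (Xv M h - 1)) := by
    refine le_trans ?_ ((boxDeg1 p _ _ k _ (pw (Fin M.f) D)).ker _ P.H P.r _ (map_le_U M hB) _ (P.lev M h) _ (ΦT_U M hu))
    rw [← Submodule.finrank_map_subtype_eq]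
    refine Submodule.finrank_mono fun F hF => ⟨⟨F, hF.1.1⟩, ⟨?_, ?_⟩, rfl⟩
    · rintro _ ⟨b, hb, rfl⟩
      rw [P.ρ_eq]
      exact Subtype.ext (hF.1.2 b hb)
    · refine ker_le_of_inv (mul_eq_one_comm.1 e1) ?_
      rw [LinearMap.mem_ker, LinearMap.sub_apply, sub_eq_zero]
      exact Subtype.ext (sub_eq_zero.1 hF.2)
  have h3 := Submodule.finrank_mono (ker_le_of_inv e4)
  refine ⟨finrank_neck C M hf hγ hn h, le_trans (Nat.add_le_add_right (Nat.mul_le_mul_left _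
    (h2.trans ((Submodule.finrank_mono inf_le_right).trans h3))) _) h1, fun hb => le_trans (Nat.add_le_add_right
      (Nat.mul_le_mul_left _ (le_trans ?_ h3)) _) h1⟩
  obtain ⟨⟨x, hx⟩, hx1⟩ := Subgroup.ne_bot_iff_exists_ne_one.1 hb
  obtain ⟨a, ha⟩ := Function.ne_iff.1 h0
  obtain ⟨e, v, hv, hv'⟩ := lead_all C M (fun b => ⟨n a, hn a, ha, hfa a _ _ b⟩) (hB hx)
    fun e => hx1 (Subtype.ext e)
  obtain ⟨w, hw, hw'⟩ := exists_fixed C M hf hγ hn h hΓ P h0 hfa hv'
  refine Nat.succ_le_of_lt (h2.trans_lt (Submodule.finrank_lt_finrank_of_lt (lt_of_le_of_ne inf_le_right fun e' => ?_)))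
  exact hw' (P.H.mem_kerOp.1 (e'.ge (ker_le_of_inv e3 hw)).1 v (Submodule.subset_span ⟨_, ⟨x, hx, rfl⟩, e, hv⟩))

/-- **TH3c** -/
theorem boxPow : BoxPow := fun p _ ι Φ k G _ _ _ _ _ _ _ _ D T S _ _ _ M C =>
  { fd := fun n hn => fd_cw C (M.mem_pats.1 hn)
    dim := fun n hn => finrank_cw C (M.mem_pats.1 hn)
    line := fun hF n hn => line C M hF (M.mem_pats.1 hn)
    inner := inner C M
    field := fun γ j hγ hf n hn h0 h hfa u hu hpow B hB _ E hE => field C M γ j hγ hf n hn h0 h hfa u hu hpow B hB E hE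
    single := fun a ν _ B => single M a ν B
    double := fun a a' hne ν hν B => double C M a a' hne ν hν B }

end Cfsg.Agent.TwoF.DC.Pw
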