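import Cfsg.Agent.TwoF.DC.Pow.PT

/-!
# TwoF, defining characteristic, TH3c (2): the product datum (helper33)
-/

set_option autoImplicit false
set_option linter.unusedSectionVars false
set_option linter.unusedVariables false

namespace Cfsg.Agent.TwoF.DC.Pw

open Module Finset Cfsg.Agent.H45.Uni Cfsg.Agent.H45.UniE

variable {α ι Φ : Type} [Fintype α] [DecidableEq α] [Fintype ι] [DecidableEq ι] [DecidableEq Φ]

/-- a vector placed in position `a` -/
def li {β : Type} [Zero β] (a : α) (v : ι → β) : α × ι → β := fun x => if x.1 = a then v x.2 else 0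

theorem li_self {β : Type} [Zero β] (a : α) (v : ι → β) (i : ι) : li a v (a, i) = v i := if_pos rfl

theorem li_ne {β : Type} [Zero β] {a c : α} (h : c ≠ a) (v : ι → β) (i : ι) : li a v (c, i) = 0 := if_neg h

theorem li_inj {β : Type} [Zero β] (a : α) {v w : ι → β} (h : li a v = li a w) : v = w :=
  funext fun i => by rw [← li_self a v, h, li_self]

theorem li_eq {β : Type} [Zero β] {a c : α} {v w : ι → β} (h : li a v = li c w) (hv : v ≠ 0) : a = c := by
  by_contra hne
  exact hv (funext fun i => by rw [← li_self a v, h, li_ne hne]; rfl)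

theorem li_add {β : Type} [AddMonoid β] (a : α) (v w : ι → β) : li a (v + w) = li a v + li a w := by
  funext x; by_cases h : x.1 = a <;> simp [li, h]

theorem li_nsmul {β : Type} [AddMonoid β] (a : α) (n : ℕ) (v : ι → β) : li a (n • v) = n • li a v := by
  funext x; by_cases h : x.1 = a <;> simp [li, h]

theorem li_sub (a : α) (v w : ι → ℤ) : li a (v - w) = li a v - li a w := by
  funext x; by_cases h : x.1 = a <;> simp [li, h]

theorem li_zsmul (a : α) (n : ℤ) (v : ι → ℤ) : li a (n • v) = n • li a v := by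
  funext x; by_cases h : x.1 = a <;> simp [li, h]

theorem li_single {β : Type} [Zero β] (a : α) (i : ι) (n : β) : li a (Pi.single i n : ι → β) = Pi.single (a, i) n := by
  funext x
  obtain ⟨c, j⟩ := x
  by_cases h : c = a
  · subst h; rw [li_self]; by_cases h' : j = i <;> simp [h']
  · rw [li_ne h, Pi.single_eq_of_ne (by simp [h])]

theorem sum_prod_left (a : α) (f : ι → ℤ) (c : α × ι → ℤ) :
    ∑ l : α × ι, (if a = l.1 then f l.2 else 0) * c l = ∑ j, f j * c (a, j) := by
  rw [Fintype.sum_prod_type, Finset.sum_eq_single a (fun b _ hb => by simp [hb.symm]) fun h => (h (mem_univ _)).elim]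
  simp

theorem sum_prod_right (a : α) (f : ι → ℤ) (c : α × ι → ℤ) :
    ∑ l : α × ι, c l * (if l.1 = a then f l.2 else 0) = ∑ j, c (a, j) * f j := by
  rw [Fintype.sum_prod_type, Finset.sum_eq_single a (fun b _ hb => by simp [hb]) fun h => (h (mem_univ _)).elim]
  simp

variable (α) in
/-- the product of copies of a root system -/
def rc (R : RC ι Φ) : RC (α × ι) (α × Φ) where
  zi x := (x.1, R.zi x.2)
  cf y := li y.1 (R.cf y.2)
  co y := li y.1 (R.co y.2)
  C x x' := if x.1 = x'.1 then R.C x.2 x'.2 else 0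
  s x y := if y.1 = x.1 then (y.1, R.s x.2 y.2) else y
  cf_zi x := by rw [R.cf_zi, li_single]
  co_zi x := by rw [R.co_zi, li_single]
  C_self x := by rw [if_pos rfl, R.C_self]
  C_inj c h := by
    funext x
    refine congrFun (R.C_inj (fun j => c (x.1, j)) fun i => ?_) x.2
    rw [← h (x.1, i), sum_prod_left x.1 (R.C i)]
  cf_inj := by
    rintro ⟨a, b⟩ ⟨a', b'⟩ h
    obtain rfl : a = a' := li_eq h (R.cf_ne_zero b)
    rw [show b = b' from R.cf_inj (li_inj a h)]
  red := by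
    rintro ⟨a, b⟩ ⟨a', i⟩ n h
    rw [← li_single] at h
    obtain rfl : a = a' := li_eq h (R.cf_ne_zero b)
    rw [R.red b i n (li_inj a h)]
  cf_s := by
    rintro ⟨a, i⟩ ⟨a', b⟩ hb ⟨c, j⟩
    rw [sum_prod_left a (R.C i)]
    by_cases h : a' = a
    · subst h
      have hb' : b ≠ R.zi i := fun e => hb (by rw [e])
      simp only [if_true, li_self]
      by_cases hc : c = a'
      · subst hc; simp only [li_self, R.cf_s i b hb' j, Prod.mk.injEq, true_and]
      · simp [li_ne hc, hc]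
    · simp [h, li_ne (Ne.symm h)]
  co_s := by
    rintro ⟨a, i⟩ ⟨a', b⟩ hb ⟨c, j⟩
    rw [sum_prod_right a (fun l => R.C l i)]
    by_cases h : a' = a
    · subst h
      have hb' : b ≠ R.zi i := fun e => hb (by rw [e])
      simp only [if_true, li_self]
      by_cases hc : c = a'
      · subst hc; simp only [li_self, R.co_s i b hb' j, Prod.mk.injEq, true_and]
      · simp [li_ne hc, hc]
    · simp [h, li_ne (Ne.symm h)]
  desc := by
    rintro ⟨a, b⟩ hb
    obtain ⟨i, hi⟩ := R.desc b fun i e => hb (a, i) (by rw [e])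
    refine ⟨(a, i), ?_⟩
    rw [sum_prod_left a (R.C i)]
    simpa only [li_self] using hi

variable (R : RC ι Φ)

theorem rc_cf (a : α) (b : Φ) : (rc α R).cf (a, b) = li a (R.cf b) := rfl

theorem rc_vec (e : Bool) (a : α) (b : Φ) : (rc α R).vec (e, (a, b)) = li a (R.vec (e, b)) := by
  funext x
  cases e <;> by_cases h : x.1 = a <;> simp [RC.vec, rc, li, h]

theorem rc_toWt (c : α × ι → ℤ) (a : α) (i : ι) : (rc α R).toWt c (a, i) = R.toWt (fun j => c (a, j)) i :=
  sum_prod_left a (R.C i) c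

theorem rc_wt (e : Bool) (a : α) (b : Φ) : (rc α R).wt (e, (a, b)) = li a (R.wt (e, b)) := by
  funext x
  obtain ⟨c, i⟩ := x
  rw [RC.wt, rc_toWt, rc_vec]
  by_cases h : c = a
  · subst h; simp only [li_self]; rfl
  · simp only [li_ne h]; exact congrFun R.toWt_zero i

theorem rc_isRt (a : α) (v : ι → ℤ) : (rc α R).IsRt (li a v) ↔ R.IsRt v := by
  constructor
  · rintro ⟨⟨e, c, b⟩, h⟩
    rw [rc_vec] at h
    obtain rfl : c = a := li_eq h (R.vec_ne_zero _)
    exact ⟨_, li_inj c h⟩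
  · rintro ⟨⟨e, b⟩, rfl⟩
    exact ⟨(e, (a, b)), rc_vec R e a b⟩

theorem rc_nz (p : ℕ) (a : α) (e e' : Bool) (b b' : Φ) :
    (rc α R).NZ p (e, (a, b)) (e', (a, b')) ↔ R.NZ p (e, b) (e', b') := by
  simp only [RC.NZ, rc_vec, ← li_add, ← li_zsmul, ← li_sub, rc_isRt]

/-- the part of a set of roots in position `a` -/
def part (S : Finset (α × Φ)) (a : α) : Finset Φ := (S.filter fun y => y.1 = a).image Prod.snd

theorem mem_part {S : Finset (α × Φ)} {a : α} {b : Φ} : b ∈ part S a ↔ (a, b) ∈ S := by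
  rw [part, mem_image]
  constructor
  · rintro ⟨⟨c, b'⟩, h, rfl⟩
    obtain ⟨h1, rfl⟩ := mem_filter.1 h
    exact h1
  · exact fun h => ⟨(a, b), mem_filter.2 ⟨h, rfl⟩, rfl⟩

theorem card_part (S : Finset (α × Φ)) : S.card ≤ ∑ a, (part S a).card := by
  rw [Finset.card_eq_sum_card_fiberwise (f := Prod.fst) (t := univ) fun _ _ => mem_univ _]
  refine Finset.sum_le_sum fun a _ => (Finset.card_image_of_injOn ?_).ge
  rintro ⟨c, b⟩ h ⟨c', b'⟩ h' e
  exact Prod.ext ((mem_filter.1 h).2.trans (mem_filter.1 h').2.symm) e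

theorem part_ab {p : ℕ} {S : Finset (α × Φ)} (h : (rc α R).Ab p S) (a : α) : R.Ab p (part S a) :=
  fun b hb b' hb' h1 => h _ (mem_part.1 hb) _ (mem_part.1 hb') ((rc_nz R p a _ _ _ _).2 h1)

theorem part_idl {p : ℕ} {S : Finset (α × Φ)} (h : (rc α R).Idl p S) (a : α) : R.Idl p (part S a) :=
  fun b hb β c h1 h2 => mem_part.2 (h _ (mem_part.1 hb) (a, β) (a, c) (by rw [rc_cf, rc_cf, rc_cf, h1, li_add])
    ((rc_nz R p a _ _ _ _).2 h2))

variable {k G : Type} [Field k] [Group G]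

/-- the embedding in position `a` -/
def ms (a : α) : G →* (α → G) := MonoidHom.mulSingle (fun _ => G) a

theorem ms_self (a : α) (x : G) : ms a x a = x := Pi.mulSingle_eq_same _ _

theorem ms_ne {a c : α} (h : c ≠ a) (x : G) : ms a x c = 1 := Pi.mulSingle_eq_of_ne h _

theorem ms_comm {a c : α} (h : a ≠ c) (x y : G) : ms a x * ms c y = ms c y * ms a x :=
  (Pi.mulSingle_commute (f := fun _ => G) h x y).eq

theorem mul_ms {a : α} {g : α → G} {x y : G} (h : g a * x = y * g a) : g * ms a x = ms a y * g := by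
  funext c
  by_cases hc : c = a
  · subst hc; rw [Pi.mul_apply, Pi.mul_apply, ms_self, ms_self, h]
  · rw [Pi.mul_apply, Pi.mul_apply, ms_ne hc, ms_ne hc, mul_one, one_mul]

theorem mem_of_ms {H : Subgroup (α → G)} {g : α → G} (h : ∀ a, ms a (g a) ∈ H) : g ∈ H :=
  Subgroup.pi_mem_of_mulSingle_mem g h

theorem map_mem_of_closure {G' : Type} [Group G'] (f : G →* G') {X : Set G} {H : Subgroup G'} {g : G}
    (hg : g ∈ Subgroup.closure X) (h : ∀ x ∈ X, f x ∈ H) : f g ∈ H :=
  (Subgroup.closure_le (H.comap f)).2 h hg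

theorem ms_list (a : α) (z : Φ → k → G) (l : List (Φ × k × ℕ)) (t : k) :
    ms a (l.map fun e => z e.1 (e.2.1 * t ^ e.2.2)).prod =
      ((l.map fun e => (((a, e.1), e.2) : (α × Φ) × k × ℕ)).map fun e => ms e.1.1 (z e.1.2 (e.2.1 * t ^ e.2.2))).prod := by
  rw [map_list_prod, List.map_map, List.map_map]
  rfl

variable (α) in
/-- the product of copies of a group datum -/
def gd (D : GDat ι Φ k G) : GDat (α × ι) (α × Φ) k (α → G) where
  x i t := ms i.1 (D.x i.2 t)
  y i t := ms i.1 (D.y i.2 t)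
  z b t := ms b.1 (D.z b.2 t)
  zi i := (i.1, D.zi i.2)
  ht b := D.ht b.2
  T := Subgroup.pi Set.univ fun _ => D.T
  δ s := fun _ => D.δ s
  hh i c := ms i.1 (D.hh i.2 c)
  τ g := fun a => D.τ (g a)
  ht_pos b := D.ht_pos _
  x_eq i s := by rw [D.x_eq]
  z_add b s t := by rw [D.z_add, map_mul]
  y_add i s t := by rw [D.y_add, map_mul]
  δ_mul s t := funext fun _ => D.δ_mul s t
  δ_mem s := fun _ _ => D.δ_mem s
  hh_mem i c := fun a _ => by
    by_cases h : a = i.1
    · rw [h, ms_self]; exact D.hh_mem _ _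
    · rw [ms_ne h]; exact D.T.one_mem
  δ_z s b a := mul_ms (D.δ_z s b.2 a)
  T_x t ht i := by
    obtain ⟨u, hu⟩ := D.T_x (t i.1) (ht i.1 trivial) i.2
    exact ⟨u, fun a => (mul_ms (hu a).symm).symm⟩
  T_y t ht i := by
    obtain ⟨u, hu⟩ := D.T_y (t i.1) (ht i.1 trivial) i.2
    exact ⟨u, fun a => mul_ms (hu a)⟩
  comm := by
    rintro ⟨a, i⟩ ⟨c, j⟩ s t h
    by_cases hc : a = c
    · subst hc
      rw [← map_mul, ← map_mul, D.comm i j s t fun e => h (by rw [e])]
    · exact ms_comm hc _ _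
  rank i a s c h := by rw [← map_mul, D.rank _ a s c h, map_mul, map_mul]
  gen := by
    refine top_unique fun g _ => mem_of_ms fun a => ?_
    have h : g a ∈ Subgroup.closure {g | ∃ i s, g = D.x i s ∨ g = D.y i s} := by rw [D.gen]; trivial
    refine map_mem_of_closure (ms a) h ?_
    rintro _ ⟨i, s, rfl | rfl⟩
    · exact Subgroup.subset_closure ⟨(a, i), s, Or.inl rfl⟩
    · exact Subgroup.subset_closure ⟨(a, i), s, Or.inr rfl⟩
  cmt := by
    rintro ⟨a, i⟩ ⟨c, b⟩ s
    by_cases hc : a = c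
    · subst hc
      obtain ⟨l, h1, h2⟩ := D.cmt i b s
      refine ⟨l.map fun e => ((a, e.1), e.2), fun e he => ?_, fun t => ?_⟩
      · obtain ⟨e', he', rfl⟩ := List.mem_map.1 he
        exact h1 e' he'
      · rw [← map_mul, ← map_mul, h2, ms_list]
    · refine ⟨[((c, b), 1, 1)], by simp, fun t => ?_⟩
      rw [ms_comm hc, mul_assoc, ← map_mul, D.x_neg, inv_mul_cancel, map_one]
      simp
  τ_mul a b := funext fun c => D.τ_mul _ _
  τ_τ a := funext fun c => D.τ_τ _
  τ_x i s := funext fun c => by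
    by_cases h : c = i.1
    · rw [h, ms_self, ms_self, D.τ_x]
    · rw [ms_ne h, ms_ne h, D.τ_one]
  τ_T t ht := funext fun c => D.τ_T _ (ht c trivial)

variable (α) in
/-- the product of copies of a datum with fundamental functions -/
def fdt (D : FDat ι Φ k G) : FDat (α × ι) (α × Φ) k (α → G) where
  toGDat := gd α D.toGDat
  Δ i g := D.Δ i.2 (g i.1)
  wt i := D.wt i.2
  N := D.N
  M := D.M
  Δ_one i := D.Δ_one _
  Δ_z := by
    rintro ⟨a, i⟩ ⟨c, b⟩ g s
    show D.Δ i (g a * ms c (D.z b s) a) = D.Δ i (g a)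
    by_cases h : a = c
    · rw [h, ms_self, D.Δ_z]
    · rw [ms_ne h, mul_one]
  Δ_T i t ht g := D.Δ_T _ _ (ht i.1 trivial) _
  Δ_hh := by
    rintro ⟨a, i⟩ ⟨c, j⟩ u
    show D.Δ i (ms c (D.hh j u) a) = _
    by_cases h : a = c
    · rw [h, ms_self, D.Δ_hh]; simp
    · rw [ms_ne h, D.Δ_one, if_neg (by simp [h])]
  Δ_δ i s := D.Δ_δ _ _
  Δ_τ i g := D.Δ_τ _ _
  pol_z := by
    rintro ⟨a, i⟩ ⟨c, b⟩ g h
    by_cases hc : a = c
    · obtain ⟨P, h1, h2⟩ := D.pol_z i b (g a) (h a)
      refine ⟨P, h1, fun s => ?_⟩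
      show D.Δ i (g a * ms c (D.z b s) a * h a) = _
      rw [← h2, hc, ms_self]
    · refine ⟨Polynomial.C (D.Δ i (g a * h a)), by simp, fun s => ?_⟩
      show D.Δ i (g a * ms c (D.z b s) a * h a) = _
      rw [ms_ne hc, mul_one, Polynomial.eval_C]
  pol_δ i g h := D.pol_δ i.2 (g i.1) (h i.1)

variable (α) in
/-- **the product datum** -/
def pw {p : ℕ} (D : RDat p ι Φ k G) : RDat p (α × ι) (α × Φ) k (α → G) where
  toFDat := fdt α D.toFDat
  R := rc α D.R
  zi_eq := funext fun i => by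
    show (i.1, D.R.zi i.2) = (i.1, D.zi i.2)
    rw [D.zi_eq]
  ht_eq := by
    rintro ⟨a, b⟩
    show D.ht b = ∑ j : α × ι, li a (D.R.cf b) j * D.ht (D.zi j.2)
    rw [D.ht_eq b, Fintype.sum_prod_type, Finset.sum_eq_single a (fun c _ hc => by simp [li_ne hc])
      fun h => (h (mem_univ _)).elim]
    simp only [li_self]
  hh_mul i c d := by
    show ms _ _ = ms _ _ * ms _ _
    rw [D.hh_mul, map_mul]
  hh_comm := by
    rintro ⟨a, i⟩ ⟨c, j⟩ u v
    show ms a _ * ms c _ = ms c _ * ms a _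
    by_cases h : a = c
    · subst h; rw [← map_mul, ← map_mul, D.hh_comm]
    · exact ms_comm h _ _
  hh_z := by
    rintro ⟨a, i⟩ u ⟨c, b⟩ t
    show ms a _ * ms c _ = ms c (D.z b _) * ms a _
    rw [rc_wt]
    by_cases h : a = c
    · subst h; rw [← map_mul, ← map_mul, D.hh_z, li_self]
    · rw [li_ne h, zpow_zero, Units.val_one, one_mul]; exact ms_comm h _ _
  n_z := by
    rintro ⟨a, i⟩ ⟨c, b⟩ hb
    by_cases h : c = a
    · subst h
      obtain ⟨ε, hε⟩ := D.n_z i b fun e => hb (by rw [e]; rfl)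
      refine ⟨ε, fun t => ?_⟩
      have h1 : (rc α D.R).s (c, i) (c, b) = (c, D.R.s i b) := if_pos rfl
      rw [h1]
      show ms c _ * ms c _ * ms c _ * ms c _ = ms c _ * (ms c _ * ms c _ * ms c _)
      simp only [← map_mul]
      rw [hε]
    · refine ⟨1, fun t => ?_⟩
      have h1 : (rc α D.R).s (a, i) (c, b) = (c, b) := if_neg h
      rw [h1]
      show ms a _ * ms a _ * ms a _ * ms c _ = ms c _ * (ms a _ * ms a _ * ms a _)
      rw [← map_mul, ← map_mul, Units.val_one, one_mul]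
      exact (ms_comm h _ _).symm
  cm := by
    rintro ⟨a, b⟩ ⟨c, b'⟩ s t
    show ms a _ * ms c _ * (ms a _)⁻¹ * (ms c _)⁻¹ ∈ _
    by_cases h : a = c
    · subst h
      rw [← map_inv, ← map_inv, ← map_mul, ← map_mul, ← map_mul]
      refine map_mem_of_closure (ms a) (D.cm b b' s t) ?_
      rintro _ ⟨e, u, ⟨m, n, hm, hn, h1⟩, rfl⟩
      exact Subgroup.subset_closure ⟨(a, e), u, ⟨m, n, hm, hn, by
        rw [rc_cf, rc_cf, rc_cf, h1, li_add, li_nsmul, li_nsmul]⟩, rfl⟩
    · rw [ms_comm h, mul_inv_cancel_right, mul_inv_cancel]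
      exact Subgroup.one_mem _
  nz := by
    rintro ⟨a, i⟩ ⟨c, b⟩ ⟨c', e⟩ h1 h2
    change li c' (D.R.cf e) = li a (D.R.cf (D.zi i)) + li c (D.R.cf b) at h1
    obtain rfl : a = c' := by
      by_contra h
      obtain ⟨j, hj⟩ := D.R.exists_cf_pos (D.zi i)
      have h3 := congrFun h1 (a, j)
      rw [li_ne h, Pi.add_apply, li_self] at h3
      omega
    obtain rfl : c = a := by
      by_contra h
      obtain ⟨j, hj⟩ := D.R.exists_cf_pos b
      have h3 := congrFun h1 (c, j)
      rw [li_ne h, Pi.add_apply, li_self] at h3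
      omega
    rw [← li_add] at h1
    obtain ⟨l, h3, h4, h5⟩ := D.nz i b e (li_inj c h1) ((rc_nz D.R p c _ _ _ _).1 h2)
    refine ⟨l.map fun e => ((c, e.1), e.2), fun e he => ?_, fun t => ?_, ?_⟩
    · obtain ⟨e', he', rfl⟩ := List.mem_map.1 he
      exact h3 e' he'
    · show ms c _ * ms c _ * ms c _ = _
      rw [← map_mul, ← map_mul, h4, ms_list]
      rfl
    · rw [List.filter_map, List.map_map]
      simpa only [Function.comp_def, Prod.mk.injEq, true_and] using h5

variable {p : ℕ} (D : RDat p ι Φ k G)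

theorem pw_x (a : α) (i : ι) (t : k) : (pw α D).x (a, i) t = ms a (D.x i t) := rfl
theorem pw_y (a : α) (i : ι) (t : k) : (pw α D).y (a, i) t = ms a (D.y i t) := rfl
theorem pw_z (a : α) (b : Φ) (t : k) : (pw α D).z (a, b) t = ms a (D.z b t) := rfl
theorem pw_ht (a : α) (b : Φ) : (pw α D).ht (a, b) = D.ht b := rfl

theorem pw_cc (n : α → ι → ℕ) : (pw α D).toFDat.cc (fun x => n x.1 x.2) = pf fun a => D.toFDat.cc (n a) := by
  funext g
  rw [FDat.cc, Fintype.prod_prod_type]
  rfl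

theorem mem_pw_U {g : α → G} (h : ∀ a, g a ∈ D.U) : g ∈ (pw α D).U := by
  refine mem_of_ms fun a => map_mem_of_closure (ms a) (h a) ?_
  rintro _ ⟨b, t, rfl⟩
  exact Subgroup.subset_closure ⟨(a, b), t, rfl⟩

end Cfsg.Agent.TwoF.DC.Pw
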