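import Cfsg.Agent.TwoF.DC.Pow.Sl

/-!
# TwoF, defining characteristic, TH3c (4): one and two tensor factors (helper33)
-/

set_option autoImplicit false
set_option linter.unusedSectionVars false
set_option linter.unusedVariables false

namespace Cfsg.Agent.TwoF.DC.Pw

open Module Finset Cfsg.Agent.H45.Uni Cfsg.Agent.H45.UniE Cfsg.Agent.TwoF.Gen

theorem ring_k1 {R : Type} [Ring R] {a b a' b' : R} (h1 : a * a' = 0) (h2 : b * b' = 0) (h3 : b * a' = a' * b) :
    a * b * (a' + b' + a' * b') = 0 := by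
  have e : a * b * (a' + b' + a' * b') = a * (b * a') + a * (b * b') + a * (b * a') * b' := by noncomm_ring
  rw [e, h2, h3, ← mul_assoc, h1]
  simp

theorem ring_k2 {R : Type} [Ring R] {a b a' b' : R} (h1 : a * a' = 0) (h2 : b * b' = 0) (h3 : b * a' = a' * b) :
    (a + b + a * b) * (a' + b' + a' * b') = a * b' + a' * b := by
  have e : (a + b + a * b) * (a' + b' + a' * b') =
      a * a' + a * b' + a * a' * b' + b * a' + b * b' + b * a' * b' + a * b * (a' + b' + a' * b') := by noncomm_ring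
  rw [e, ring_k1 h1 h2 h3, h1, h2, h3, mul_assoc a' b b', h2]
  simp

theorem cub_of_two {k V T : Type} [Field k] [AddCommGroup V] [Module k V] [Group T] (ρ : Representation k T V)
    (B : Subgroup T) (a b : T → Module.End k V) (hρ : ∀ x, ρ x = a x * b x) (hc : ∀ x y, Commute (b x) (a y))
    (ha : ∀ x ∈ B, ∀ y ∈ B, (a x - 1) * (a y - 1) = 0) (hb : ∀ x ∈ B, ∀ y ∈ B, (b x - 1) * (b y - 1) = 0) :
    Cub ρ B := by
  have h1 : ∀ x, ρ x - 1 = (a x - 1) + (b x - 1) + (a x - 1) * (b x - 1) := fun x => by rw [hρ]; noncomm_ring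
  have h2 : ∀ x y, (b x - 1) * (a y - 1) = (a y - 1) * (b x - 1) := fun x y =>
    (((hc x y).sub_right (Commute.one_right _)).sub_left (Commute.one_left _)).eq
  intro x hx y hy z hz
  rw [h1, h1, h1, ring_k2 (ha x hx y hy) (hb x hx y hy) (h2 x y), add_mul, ring_k1 (ha x hx z hz) (hb y hy z hz) (h2 y z),
    ring_k1 (ha y hy z hz) (hb x hx z hz) (h2 x z), add_zero]

theorem Tr_comp_surj {k G G' : Type} [Field k] [Group G] [Group G'] (π : G' →* G) (hπ : Function.Surjective π)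
    (c : G → k) : Tr (c ∘ π) = (Tr c).map (LinearMap.funLeft k k π) := by
  rw [Tr, Tr, Submodule.map_span, ← Set.range_comp]
  congr 1
  ext F
  constructor
  · rintro ⟨h, rfl⟩
    exact ⟨π h, funext fun g => by simp [LinearMap.funLeft_apply, RR_apply]⟩
  · rintro ⟨h, rfl⟩
    obtain ⟨h, rfl⟩ := hπ h
    exact ⟨h, funext fun g => by simp [LinearMap.funLeft_apply, RR_apply]⟩

theorem finrank_fx_Tr {k G T : Type} [Field k] [Group G] [Group T] (c : G → k) (ψ : T →* G) (B : Subgroup T) :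
    finrank k (fx (ρTr c) (B.map ψ)) = finrank k ↥(Tr c ⊓ fx (k := k) ((RRep (k := k) (G := G)).comp ψ) B) := by
  rw [← Submodule.finrank_map_subtype_eq]
  have h : (fx (ρTr c) (B.map ψ)).map (Tr c).subtype = Tr c ⊓ fx (k := k) ((RRep (k := k) (G := G)).comp ψ) B :=
    Submodule.ext fun F => ⟨by
      rintro ⟨F, h, rfl⟩
      exact ⟨F.2, fun b hb => congrArg Subtype.val (h _ ⟨b, hb, rfl⟩)⟩, fun h => ⟨⟨F, h.1⟩, by
        rintro _ ⟨b, hb, rfl⟩
        exact Subtype.ext (h.2 b hb), rfl⟩⟩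
  rw [h]

variable {p : ℕ} [hp : Fact p.Prime] {α ι Φ k G : Type} [Fintype α] [DecidableEq α] [Fintype ι] [DecidableEq ι]
  [Fintype Φ] [DecidableEq Φ] [Field k] [IsAlgClosed k] [CharP k p] [Group G] {D : RDat p ι Φ k G} (C : Can D)

theorem cw_dep {n : α → ι → ℕ} {s : Set α} (hs : ∀ c, c ∉ s → n c = 0) {F : (α → G) → k} (hF : F ∈ Tr (cw D n)) :
    ∀ g g' : α → G, (∀ c ∈ s, g c = g' c) → F g = F g' := by
  induction hF using Submodule.span_induction with
  | mem F hF =>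
    obtain ⟨h, rfl⟩ := hF
    refine fun g g' hg => Finset.prod_congr rfl fun c _ => ?_
    by_cases hc : c ∈ s
    · rw [Pi.mul_apply, Pi.mul_apply, hg c hc]
    · simp [hs c hc, FDat.cc]
  | zero => exact fun _ _ _ => rfl
  | add F F' _ _ h1 h2 => exact fun g g' hg => by rw [Pi.add_apply, Pi.add_apply, h1 g g' hg, h2 g g' hg]
  | smul a F _ h1 => exact fun g g' hg => by rw [Pi.smul_apply, Pi.smul_apply, h1 g g' hg]

/-- functions of one variable -/
def ev (a : α) : (G → k) →ₗ[k] ((α → G) → k) := LinearMap.funLeft k k (Pi.evalMonoidHom (fun _ => G) a)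

theorem ev_apply (a : α) (F : G → k) (g : α → G) : ev a F g = F (g a) := rfl

theorem sl_ev (a : α) (g : α → G) (F : G → k) : sl a g (ev a F) = F := funext fun x => by
  rw [sl_apply, ev_apply, Function.update_self]

theorem ev_inj (a : α) : Function.Injective (ev (k := k) (G := G) a) := fun F F' h => by
  rw [← sl_ev a 1 F, h, sl_ev]

theorem RR_ev (a : α) (h : α → G) (F : G → k) : RR h (ev a F) = ev a (RR (h a) F) := rfl

theorem Tr_single (a : α) (ν : ι → ℕ) : Tr (cw D (Pi.single a ν)) = (Lc D ν).map (ev a) := by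
  have h : cw D (Pi.single a ν) = D.toFDat.cc ν ∘ Pi.evalMonoidHom (fun _ => G) a := funext fun g => by
    rw [cw, pf_apply, Finset.prod_eq_single a (fun c _ hc => by simp [hc, FDat.cc]) fun h => (h (mem_univ _)).elim,
      Pi.single_eq_same]
    rfl
  rw [h]
  exact Tr_comp_surj _ (fun x => ⟨fun _ => x, rfl⟩) _

variable {T S : Type} [Group T] [Finite T] [Group S] (M : Std D T S)

theorem Fr_surj : Function.Surjective M.Fr := by
  rw [← MonoidHom.range_eq_top, eq_top_iff, ← D.gen, Subgroup.closure_le]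
  rintro _ ⟨i, s, rfl | rfl⟩
  · obtain ⟨t, rfl⟩ := IsAlgClosed.exists_pow_nat_eq s hp.out.pos
    exact ⟨_, M.Fr_x i t⟩
  · obtain ⟨t, rfl⟩ := IsAlgClosed.exists_pow_nat_eq s hp.out.pos
    exact ⟨_, M.Fr_y i t⟩

theorem FrP_surj (a : ℕ) : Function.Surjective (M.FrP a) := fun g => by
  obtain ⟨x, rfl⟩ := (Fr_surj M).iterate a g
  exact ⟨x, M.FrP_apply a x⟩

/-- the Frobenius twist of functions -/
noncomputable def tf (a : ℕ) : (G → k) →+ (G → k) where
  toFun F g := (iterateFrobeniusEquiv k p a).symm (F (M.FrP a g))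
  map_zero' := funext fun g => map_zero _
  map_add' F F' := funext fun g => map_add _ _ _

theorem tf_apply (a : ℕ) (F : G → k) (g : G) : tf M a F g = (iterateFrobeniusEquiv k p a).symm (F (M.FrP a g)) := rfl

theorem tf_smul (a : ℕ) (c : k) (F : G → k) : tf M a (c • F) = (iterateFrobeniusEquiv k p a).symm c • tf M a F :=
  funext fun g => map_mul (iterateFrobeniusEquiv k p a).symm c (F (M.FrP a g))

theorem tf_inj (a : ℕ) : Function.Injective (tf M a) := fun F F' h => funext fun g => by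
  obtain ⟨x, rfl⟩ := FrP_surj M a g
  exact (iterateFrobeniusEquiv k p a).symm.injective (congrFun h x)

theorem tf_RR (a : ℕ) (h : G) (F : G → k) : tf M a (RR (M.FrP a h) F) = RR h (tf M a F) := funext fun g => by
  rw [tf_apply, RR_apply, RR_apply, tf_apply, map_mul]

theorem tf_D (a : ℕ) (h : G) (F : G → k) : tf M a (RR (M.FrP a h) F - F) = RR h (tf M a F) - tf M a F := by
  rw [map_sub, tf_RR]

theorem tf_cc (a : ℕ) (ν : ι → ℕ) : tf M a (D.toFDat.cc ν) = D.toFDat.cc ν := funext fun g => by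
  rw [tf_apply, RingEquiv.symm_apply_eq, iterateFrobeniusEquiv_def, FDat.cc, FDat.cc, ← Finset.prod_pow]
  exact Finset.prod_congr rfl fun i _ => by rw [M.FrP_apply, M.Δ_iter, ← pow_mul, ← pow_mul, mul_comm]

theorem tf_mem (a : ℕ) {ν : ι → ℕ} {F : G → k} (hF : F ∈ Lc D ν) : tf M a F ∈ Lc D ν := by
  induction hF using Submodule.span_induction with
  | mem F hF =>
    obtain ⟨h, rfl⟩ := hF
    obtain ⟨h, rfl⟩ := FrP_surj M a h
    rw [tf_RR, tf_cc]
    exact mem_Tr _ _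
  | zero => rw [map_zero]; exact Submodule.zero_mem _
  | add F F' _ _ h1 h2 => rw [map_add]; exact Submodule.add_mem _ h1 h2
  | smul c F _ h1 => rw [tf_smul]; exact Submodule.smul_mem _ _ h1

theorem tf_surj (a : ℕ) {ν : ι → ℕ} {F : G → k} (hF : F ∈ Lc D ν) : ∃ F' ∈ Lc D ν, tf M a F' = F := by
  induction hF using Submodule.span_induction with
  | mem F hF =>
    obtain ⟨h, rfl⟩ := hF
    exact ⟨_, mem_Tr _ (M.FrP a h), by rw [tf_RR, tf_cc]⟩
  | zero => exact ⟨0, Submodule.zero_mem _, map_zero _⟩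
  | add F F' _ _ h1 h2 =>
    obtain ⟨u, hu, rfl⟩ := h1
    obtain ⟨v, hv, rfl⟩ := h2
    exact ⟨u + v, Submodule.add_mem _ hu hv, map_add _ _ _⟩
  | smul c F _ h1 =>
    obtain ⟨u, hu, rfl⟩ := h1
    exact ⟨iterateFrobeniusEquiv k p a c • u, Submodule.smul_mem _ _ hu, by rw [tf_smul, RingEquiv.symm_apply_apply]⟩

theorem tf_Xi (a : ℕ) (γ : M.Gr) (x : G) (F : G → k) :
    tf M a (Xi (M.gr γ).toMonoidHom (M.FrP a x) F) = Xi (M.gr γ).toMonoidHom x (tf M a F) := funext fun g => by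
  rw [tf_apply, Xi_apply, Xi_apply, tf_apply, map_mul, map_inv]
  congr 3
  rw [M.FrP_apply, M.FrP_apply]
  exact M.gr_iter γ a g

theorem finrank_tf (a : ℕ) {ν : ι → ℕ} {N N' : Submodule k (G → k)} (hN : N ≤ Lc D ν) (hN' : N' ≤ Lc D ν)
    (h : ∀ F ∈ Lc D ν, F ∈ N ↔ tf M a F ∈ N') : finrank k N = finrank k N' :=
  finrank_eq_semi (iterateFrobeniusEquiv k p a).symm.bijective (tf M a) (tf_smul M a)
    (fun v _ h0 => tf_inj M a (h0.trans (map_zero _).symm)) (fun v hv => (h v (hN hv)).1 hv) fun w hw => by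
      obtain ⟨v, hv, rfl⟩ := tf_surj M a (hN' hw)
      exact ⟨v, (h v hv).2 hw, rfl⟩

theorem tf_fx (a : ℕ) (B : Subgroup T) (F : G → k) :
    F ∈ fx (k := k) ((RRep (k := k) (G := G)).comp ((M.FrP a).comp M.φ)) B ↔
      tf M a F ∈ fx (k := k) ((RRep (k := k) (G := G)).comp M.φ) B :=
  forall₂_congr fun b hb => (tf_inj M a).eq_iff.symm.trans (by
    rw [show ((RRep (k := k) (G := G)).comp ((M.FrP a).comp M.φ)) b F = RR (M.FrP a (M.φ b)) F from rfl, tf_RR]
    rfl)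

/-- the fixed vectors in position `a` -/
def Kx (a : ℕ) (ν : ι → ℕ) (B : Subgroup T) : Submodule k (G → k) :=
  Lc D ν ⊓ fx (k := k) ((RRep (k := k) (G := G)).comp ((M.FrP a).comp M.φ)) B

theorem finrank_Kx (a : ℕ) (ν : ι → ℕ) (B : Subgroup T) :
    finrank k (Kx M a ν B) = finrank k (fx (ρc D ν) (B.map M.φ)) := by
  rw [finrank_fx_Tr]
  exact finrank_tf M a inf_le_left inf_le_left fun F hF =>
    ⟨fun h => ⟨tf_mem M a hF, (tf_fx M a B F).1 h.2⟩, fun h => ⟨hF, (tf_fx M a B F).2 h.2⟩⟩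

theorem fxW_single (a : Fin M.f) (ν : ι → ℕ) (B : Subgroup T) : M.fxW (Pi.single a ν) B = (Kx M a ν B).map (ev a) := by
  refine Submodule.ext fun F => ⟨fun h => ?_, ?_⟩
  · obtain ⟨F, hF, rfl⟩ := (Tr_single a ν).le h.1
    exact ⟨F, ⟨hF, fun b hb => ev_inj a (h.2 b hb)⟩, rfl⟩
  · rintro ⟨F, h, rfl⟩
    exact ⟨(Tr_single a ν).ge ⟨F, h.1, rfl⟩, fun b hb => congrArg (ev a) (h.2 b hb)⟩

theorem Xi_ev (a : Fin M.f) (γ : M.Gr) (x : Fin M.f → G) (F : G → k) :
    Xi (M.aut γ 0) x (ev a F) = ev a (Xi (M.gr γ).toMonoidHom (x a) F) := funext fun g => by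
  rw [Xi_apply, ev_apply, ev_apply, Xi_apply, Pi.mul_apply, M.aut_apply, add_zero, Nat.div_eq_of_lt a.2, pow_zero,
    inv_one, mul_one, M.pos_val]
  rfl

theorem single (a : Fin M.f) (ν : ι → ℕ) (B : Subgroup T) :
    finrank k (M.fxW (Pi.single a ν) B) = finrank k (fx (ρc D ν) (B.map M.φ)) ∧
    (Cub (ρc D ν) (B.map M.φ) → Cub (M.ρW (Pi.single a ν)) B) ∧
    ∀ (u : T) (γ : M.Gr), Commute γ M.σ → finrank k (M.fxX (Pi.single a ν) B u γ 0) = finrank k (M.fxG ν B u γ) := by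
  refine ⟨?_, fun h x hx y hy z hz => LinearMap.ext fun v => Subtype.ext ?_, fun u γ _ => ?_⟩
  · rw [fxW_single, ← (Submodule.equivMapOfInjective _ (ev_inj a) _).finrank_eq, finrank_Kx]
  · obtain ⟨F, hF, e⟩ := (Tr_single a ν).le v.2
    have h1 := congrArg Subtype.val (DFunLike.congr_fun (h _ ⟨x, hx, rfl⟩ _ ⟨y, hy, rfl⟩ _ ⟨z, hz, rfl⟩)
      ⟨_, tf_mem M a hF⟩)
    have h2 : ∀ (s : T) (F : G → k), (RR (M.φ s) - 1 : Module.End k (G → k)) (tf M a F) =
        tf M a ((RR (M.FrP a (M.φ s)) - 1 : Module.End k (G → k)) F) := fun s F => (tf_D M a _ F).symm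
    change (RR (M.φ x) - 1 : Module.End k (G → k)) ((RR (M.φ y) - 1 : Module.End k (G → k))
      ((RR (M.φ z) - 1 : Module.End k (G → k)) (tf M a F))) = 0 at h1
    rw [h2, h2, h2] at h1
    have h3 := congrArg (ev a) (tf_inj M a (h1.trans (map_zero _).symm))
    change (RR (M.ΦT x) - 1 : Module.End k _) ((RR (M.ΦT y) - 1 : Module.End k _)
      ((RR (M.ΦT z) - 1 : Module.End k _) v.1)) = 0
    rw [← e]
    exact h3
  · have h1 : M.fxX (Pi.single a ν) B u γ 0 =
        (Kx M a ν B ⊓ LinearMap.ker (Xi (M.gr γ).toMonoidHom (M.FrP a (M.φ u)) - 1)).map (ev a) := by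
      have h2 : ∀ F : G → k, ev a F ∈ LinearMap.ker (Xi (M.aut γ 0) (M.ΦT u) - 1) ↔
          F ∈ LinearMap.ker (Xi (M.gr γ).toMonoidHom (M.FrP a (M.φ u)) - 1) := fun F => by
        rw [LinearMap.mem_ker, LinearMap.mem_ker, LinearMap.sub_apply, LinearMap.sub_apply, sub_eq_zero, sub_eq_zero,
          Xi_ev]
        exact (ev_inj a).eq_iff
      rw [Std.fxX, fxW_single]
      refine Submodule.ext fun F => ⟨?_, ?_⟩
      · rintro ⟨⟨F, hF, rfl⟩, h⟩
        exact ⟨F, ⟨hF, (h2 F).1 h⟩, rfl⟩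
      · rintro ⟨F, h, rfl⟩
        exact ⟨⟨F, h.1, rfl⟩, (h2 F).2 h.2⟩
    rw [h1, ← (Submodule.equivMapOfInjective _ (ev_inj a) _).finrank_eq]
    have h3 : ∀ F : G → k, F ∈ LinearMap.ker (Xi (M.gr γ).toMonoidHom (M.FrP a (M.φ u)) - 1) ↔
        tf M a F ∈ LinearMap.ker (Xi (M.gr γ).toMonoidHom (M.φ u) - 1) := fun F => by
      rw [LinearMap.mem_ker, LinearMap.mem_ker, LinearMap.sub_apply, LinearMap.sub_apply, sub_eq_zero, sub_eq_zero,
        ← tf_Xi]
      exact (tf_inj M a).eq_iff.symm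
    exact finrank_tf M a (inf_le_left.trans inf_le_left) (inf_le_left.trans inf_le_left) fun F hF =>
      ⟨fun h => ⟨⟨tf_mem M a hF, (tf_fx M a B F).1 h.1.2⟩, (h3 F).1 h.2⟩,
        fun h => ⟨⟨hF, (tf_fx M a B F).2 h.1.2⟩, (h3 F).2 h.2⟩⟩

include C in
theorem prod_le_fxW {n : Fin M.f → ι → ℕ} (hn : ∀ a i, n a i < p) (B : Subgroup T) :
    ∏ a : Fin M.f, finrank k (Kx M a (n a) B) ≤ finrank k (M.fxW n B) := by
  have : ∀ a : Fin M.f, FiniteDimensional k (Kx M a (n a) B) := fun a =>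
    @Submodule.finiteDimensional_of_le _ _ _ _ _ _ _ (fd_Lc C (hn a)) inf_le_left
  have : FiniteDimensional k (M.Wc n) := fd_cw C hn
  have : FiniteDimensional k (M.fxW n B) := Submodule.finiteDimensional_of_le (inf_le_left : _ ≤ M.Wc n)
  rw [← finrank_PT]
  refine Submodule.finrank_mono (PT_le fun F hF => ⟨pf_mem_cw C hn fun a => (hF a).1, fun b hb => ?_⟩)
  exact congrArg pf (funext fun a => (hF a).2 b hb)

include C in
theorem double (a a' : Fin M.f) (hne : a ≠ a') (ν : ι → ℕ) (hν : ∀ i, ν i < p) (B : Subgroup T) :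
    finrank k (fx (ρc D ν) (B.map M.φ)) ^ 2 ≤ finrank k (M.fxW (Pi.single a ν + Pi.single a' ν) B) ∧
    ((∀ x ∈ B, ∀ y ∈ B, (ρc D ν (M.φ x) - 1) * (ρc D ν (M.φ y) - 1) = 0) →
      Cub (M.ρW (Pi.single a ν + Pi.single a' ν)) B) := by
  generalize hm : (Pi.single a ν + Pi.single a' ν : Fin M.f → ι → ℕ) = n
  have h1 : n a = ν := by simp [← hm, hne]
  have h2 : n a' = ν := by simp [← hm, hne.symm]
  have h3 : ∀ c, c ≠ a ∧ c ≠ a' → n c = 0 := fun c hc => by simp [← hm, hc.1, hc.2]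
  have hn : ∀ c i, n c i < p := fun c i => by
    by_cases h : c = a
    · rw [h, h1]; exact hν i
    by_cases h' : c = a'
    · rw [h', h2]; exact hν i
    · rw [h3 c ⟨h, h'⟩]; exact hp.out.pos
  constructor
  · refine le_trans (le_of_eq ?_) (prod_le_fxW C M hn B)
    rw [Finset.prod_eq_mul a a' hne (fun c _ hc => ?_) (fun h => (h (mem_univ _)).elim) fun h => (h (mem_univ _)).elim,
      h1, h2, finrank_Kx, finrank_Kx, sq]
    rw [h3 c hc, show Kx M c 0 B = Lc D 0 from inf_eq_left.2 fun F hF b _ => RR_Lc_zero hF _]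
    exact dd_zero D
  · intro hq
    let A : Fin M.f → T → Module.End k (Tr (cw D n)) := fun c x => ρTr (cw D n) (ms c (M.FrP c (M.φ x)))
    have hA : ∀ c, n c = ν → ∀ x ∈ B, ∀ y ∈ B, (A c x - 1) * (A c y - 1) = 0 := fun c hc x hx y hy => by
      refine LinearMap.ext fun v => Subtype.ext (funext fun g => ?_)
      have h4 : sl c g v.1 ∈ Lc D ν := hc ▸ (slL C hn c g v).2
      have h5 := congrArg Subtype.val (DFunLike.congr_fun (hq x hx y hy) ⟨_, tf_mem M c h4⟩)
      change RR (M.φ x) (RR (M.φ y) (tf M c _) - tf M c _) - (RR (M.φ y) (tf M c _) - tf M c _) = 0 at h5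
      rw [← tf_D, ← tf_D] at h5
      have h6 := tf_inj M c (h5.trans (map_zero _).symm)
      rw [← sl_RR_single, ← map_sub, ← sl_RR_single, ← map_sub] at h6
      exact (sl_self c g _).symm.trans (congrFun h6 (g c))
    refine cub_of_two _ B (A a) (A a') (fun x => ?_) (fun x y => ?_) (hA a h1) (hA a' h2)
    · refine Eq.trans ?_ (map_mul (ρTr (cw D n)) _ _)
      refine LinearMap.ext fun v => Subtype.ext (funext fun g => ?_)
      refine cw_dep (s := {c | ¬ (c ≠ a ∧ c ≠ a')}) (fun c hc => h3 c (not_not.1 hc)) v.2 _ _ fun c hc => ?_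
      rw [Pi.mul_apply, Pi.mul_apply, Pi.mul_apply]
      by_cases h : c = a
      · rw [h, ms_self, ms_ne hne, mul_one]; rfl
      · have h' : c = a' := by_contra fun h' => hc ⟨h, h'⟩
        rw [h', ms_self, ms_ne hne.symm, one_mul]; rfl
    · exact (map_mul (ρTr (cw D n)) _ _).symm.trans ((congrArg _ (ms_comm hne.symm _ _)).trans (map_mul _ _ _))

end Cfsg.Agent.TwoF.DC.Pw
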