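import Cfsg.Agent.TwoF.DC.Asm.Pat

/-!
# TwoF, defining characteristic, TH3c (1): tensor products of spaces of functions, necklaces (helper33)
-/

set_option autoImplicit false
set_option linter.unusedSectionVars false
set_option linter.unusedVariables false

namespace Cfsg.Agent.TwoF.DC.Pw

open Module Finset Cfsg.Agent.H45.Uni

section PT

variable {k α X : Type} [Field k] [Fintype α] [DecidableEq α]

/-- the slice through `g` in direction `a` -/
def sl (a : α) (g : α → X) : ((α → X) → k) →ₗ[k] (X → k) := LinearMap.funLeft k k fun x => Function.update g a x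

theorem sl_apply (a : α) (g : α → X) (F : (α → X) → k) (x : X) : sl a g F x = F (Function.update g a x) := rfl

theorem sl_self (a : α) (g : α → X) (F : (α → X) → k) : sl a g F (g a) = F g := by
  rw [sl_apply, Function.update_eq_self]

/-- the tensor product of spaces of functions -/
def PT (L : α → Submodule k (X → k)) : Submodule k ((α → X) → k) := ⨅ (a : α) (g : α → X), (L a).comap (sl a g)

theorem mem_PT {L : α → Submodule k (X → k)} {F : (α → X) → k} : F ∈ PT L ↔ ∀ a g, sl a g F ∈ L a := by
  simp only [PT, Submodule.mem_iInf, Submodule.mem_comap]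

theorem PT_mono {L L' : α → Submodule k (X → k)} (h : ∀ a, L a ≤ L' a) : PT L ≤ PT L' :=
  fun F hF => mem_PT.2 fun a g => h a (mem_PT.1 hF a g)

/-- product functions -/
def pf (F : α → X → k) : (α → X) → k := fun g => ∏ a, F a (g a)

theorem pf_apply (F : α → X → k) (g : α → X) : pf F g = ∏ a, F a (g a) := rfl

theorem pf_eq (F : α → X → k) (a : α) (g : α → X) : pf F g = (∏ c ∈ univ.erase a, F c (g c)) * F a (g a) :=
  (Finset.prod_erase_mul _ _ (mem_univ a)).symm

theorem sl_pf (F : α → X → k) (a : α) (g : α → X) : sl a g (pf F) = (∏ c ∈ univ.erase a, F c (g c)) • F a := by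
  funext x
  rw [sl_apply, pf_eq F a, Function.update_self, Pi.smul_apply, smul_eq_mul]
  congr 1
  exact Finset.prod_congr rfl fun c hc => by rw [Function.update_of_ne (Finset.ne_of_mem_erase hc)]

theorem pf_mem {L : α → Submodule k (X → k)} {F : α → X → k} (h : ∀ a, F a ∈ L a) : pf F ∈ PT L :=
  mem_PT.2 fun a g => by rw [sl_pf]; exact (L a).smul_mem _ (h a)

theorem pf_mem_span {β : α → Type} (v : ∀ a, β a → X → k) {F : α → X → k}
    (h : ∀ a, F a ∈ Submodule.span k (Set.range (v a))) :
    pf F ∈ Submodule.span k (Set.range fun I : ∀ a, β a => pf fun a => v a (I a)) := by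
  classical
  choose c hc using fun a => Finsupp.mem_span_range_iff_exists_finsupp.1 (h a)
  have h1 : pf F = ∑ I ∈ Fintype.piFinset fun a => (c a).support, (∏ a, c a (I a)) • pf fun a => v a (I a) := by
    funext g
    rw [Finset.sum_apply, pf_apply]
    have h2 : ∀ a, F a (g a) = ∑ x ∈ (c a).support, c a x * v a x (g a) := fun a => by
      rw [← hc a, Finsupp.sum, Finset.sum_apply]; rfl
    rw [Finset.prod_congr rfl fun a _ => h2 a, Finset.prod_univ_sum]
    exact Finset.sum_congr rfl fun I _ => by rw [Finset.prod_mul_distrib]; rfl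
  rw [h1]
  exact Submodule.sum_mem _ fun I _ => Submodule.smul_mem _ _ (Submodule.subset_span ⟨I, rfl⟩)

/-- finite combinations of evaluations -/
def lam (c : X →₀ k) : (X → k) →ₗ[k] k := ∑ x ∈ c.support, c x • LinearMap.proj x

theorem lam_apply (c : X →₀ k) (φ : X → k) : lam c φ = ∑ x ∈ c.support, c x * φ x := by
  rw [lam, LinearMap.sum_apply]; rfl

theorem exists_lam {L : Submodule k (X → k)} [FiniteDimensional k L] (K : L →ₗ[k] k) :
    ∃ c : X →₀ k, ∀ φ : L, lam c φ = K φ := by
  have h1 : K ∈ Submodule.span k (Set.range fun x : X => (LinearMap.proj x : (X → k) →ₗ[k] k) ∘ₗ L.subtype) := by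
    refine FiniteDimensional.mem_span_of_iInf_ker_le_ker fun φ hφ => ?_
    have h2 : φ = 0 := Subtype.ext (funext fun x => (Submodule.mem_iInf _).1 hφ x)
    rw [h2]; exact Submodule.zero_mem _
  obtain ⟨c, hc⟩ := Finsupp.mem_span_range_iff_exists_finsupp.1 h1
  refine ⟨c, fun φ => ?_⟩
  rw [lam_apply, ← hc, Finsupp.sum, LinearMap.sum_apply]
  rfl

/-- the product of the functionals -/
def Lam (c : α → X →₀ k) : ((α → X) → k) →ₗ[k] k :=
  ∑ x ∈ Fintype.piFinset fun a => (c a).support, (∏ a, c a (x a)) • LinearMap.proj x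

theorem Lam_pf (c : α → X →₀ k) (F : α → X → k) : Lam c (pf F) = ∏ a, lam (c a) (F a) := by
  rw [Lam, LinearMap.sum_apply, Finset.prod_congr rfl fun a _ => lam_apply (c a) (F a), Finset.prod_univ_sum]
  exact Finset.sum_congr rfl fun I _ => by rw [Finset.prod_mul_distrib]; rfl

/-- products of linearly independent functions are linearly independent -/
theorem pf_indep {β : α → Type} [∀ a, Fintype (β a)] {v : ∀ a, β a → X → k} (h : ∀ a, LinearIndependent k (v a)) :
    LinearIndependent k fun I : ∀ a, β a => pf fun a => v a (I a) := by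
  classical
  have hf : ∀ a, FiniteDimensional k (Submodule.span k (Set.range (v a))) := fun a =>
    FiniteDimensional.span_of_finite k (Set.finite_range _)
  choose c hc using fun a i => exists_lam ((Basis.span (h a)).coord i)
  have h1 : ∀ a i j, lam (c a i) (v a j) = if j = i then 1 else 0 := fun a i j => by
    have h2 := hc a i (Basis.span (h a) j)
    rw [Basis.coord_apply, Basis.repr_self, Finsupp.single_apply, Basis.span_apply] at h2
    exact h2
  rw [Fintype.linearIndependent_iff]
  intro g hg I
  have h2 := congrArg (Lam fun a => c a (I a)) hg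
  rw [map_sum, map_zero, Finset.sum_eq_single I] at h2
  · rw [map_smul, Lam_pf] at h2
    simpa [h1] using h2
  · intro J _ hJ
    obtain ⟨a, ha⟩ := Function.ne_iff.1 hJ
    rw [map_smul, Lam_pf, Finset.prod_eq_zero (mem_univ a) (by rw [h1, if_neg ha]), smul_zero]
  · exact fun h => (h (mem_univ _)).elim

variable [Nonempty X]

theorem PT_aux {L : α → Submodule k (X → k)} [∀ a, FiniteDimensional k (L a)] (s : Finset α) :
    ∀ F : (α → X) → k, (∀ g g', (∀ a ∈ s, g a = g' a) → F g = F g') → (∀ a ∈ s, ∀ g, sl a g F ∈ L a) →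
      F ∈ Submodule.span k {H | ∃ F' : α → X → k, (∀ a ∈ s, F' a ∈ L a) ∧ (∀ a, a ∉ s → F' a = 1) ∧ H = pf F'} := by
  induction s using Finset.induction_on with
  | empty =>
    intro F h1 _
    have h2 : F = F (fun _ => Classical.arbitrary X) • pf (1 : α → X → k) := by
      funext g
      rw [h1 g (fun _ => Classical.arbitrary X) (by simp), Pi.smul_apply, pf_apply]
      simp
    rw [h2]
    exact Submodule.smul_mem _ _ (Submodule.subset_span ⟨1, by simp, fun _ _ => rfl, rfl⟩)
  | insert a s ha ih =>
    intro F h1 h2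
    let b := Module.finBasis k (L a)
    choose c hc using fun i => exists_lam (b.coord i)
    let mu : (X → k) → ((α → X) → k) →ₗ[k] ((α → X) → k) := fun φ => LinearMap.mulLeft k fun g => φ (g a)
    have h3 : F = ∑ i, mu (b i) fun g => lam (c i) (sl a g F) := by
      funext g
      have h4 := congrArg (fun φ : L a => (φ : X → k) (g a)) (b.sum_repr ⟨_, h2 a (mem_insert_self _ _) g⟩)
      simp only [Submodule.coe_sum, Finset.sum_apply, Submodule.coe_smul, Pi.smul_apply, smul_eq_mul, sl_self] at h4
      rw [← h4, Finset.sum_apply]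
      refine Finset.sum_congr rfl fun i _ => ?_
      rw [← Basis.coord_apply, ← hc, mul_comm]
      rfl
    rw [h3]
    refine Submodule.sum_mem _ fun i _ => ?_
    have h4 := ih (fun g => lam (c i) (sl a g F)) (fun g g' hg => ?_) fun a' ha' g => ?_
    · have h5 := Submodule.mem_map_of_mem (f := mu (b i)) h4
      rw [Submodule.map_span] at h5
      refine Submodule.span_mono ?_ h5
      rintro _ ⟨_, ⟨F', h6, h7, rfl⟩, rfl⟩
      refine ⟨Function.update F' a (b i), fun a' ha' => ?_, fun a' ha' => ?_, ?_⟩
      · by_cases h : a' = a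
        · subst h; rw [Function.update_self]; exact (b i).2
        · rw [Function.update_of_ne h]; exact h6 a' ((mem_insert.1 ha').resolve_left h)
      · rw [mem_insert, not_or] at ha'
        rw [Function.update_of_ne ha'.1, h7 a' ha'.2]
      · funext g
        show (b i : X → k) (g a) * pf F' g = _
        rw [pf_eq _ a, pf_eq _ a, h7 a ha, Function.update_self, Pi.one_apply, mul_one, mul_comm]
        congr 1
        exact Finset.prod_congr rfl fun c hc => by rw [Function.update_of_ne (Finset.ne_of_mem_erase hc)]
    · congr 1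
      funext x
      refine h1 (Function.update g a x) (Function.update g' a x) fun a' ha' => ?_
      by_cases h : a' = a
      · subst h; rw [Function.update_self, Function.update_self]
      · rw [Function.update_of_ne h, Function.update_of_ne h]; exact hg a' ((mem_insert.1 ha').resolve_left h)
    · have hne : a' ≠ a := fun h => ha (h ▸ ha')
      have h5 : (sl a' g fun g => lam (c i) (sl a g F)) =
          ∑ x ∈ (c i).support, c i x • sl a' (Function.update g a x) F := by
        funext y
        rw [sl_apply, lam_apply, Finset.sum_apply]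
        exact Finset.sum_congr rfl fun x _ => by
          rw [sl_apply, Pi.smul_apply, sl_apply, smul_eq_mul, Function.update_comm hne]
      rw [h5]
      exact Submodule.sum_mem _ fun x _ => Submodule.smul_mem _ _ (h2 a' (mem_insert_of_mem ha') _)

theorem PT_le {L : α → Submodule k (X → k)} [∀ a, FiniteDimensional k (L a)] {N : Submodule k ((α → X) → k)}
    (h : ∀ F : α → X → k, (∀ a, F a ∈ L a) → pf F ∈ N) : PT L ≤ N := by
  intro F hF
  have h1 := PT_aux (L := L) univ F (fun g g' hg => by rw [show g = g' from funext fun a => hg a (mem_univ a)])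
    fun a _ g => mem_PT.1 hF a g
  refine Submodule.span_le.2 ?_ h1
  rintro _ ⟨F', h2, -, rfl⟩
  exact h F' fun a => h2 a (mem_univ a)

theorem PT_span {β : α → Type} (v : ∀ a, β a → X → k)
    [∀ a, FiniteDimensional k (Submodule.span k (Set.range (v a)))] :
    PT (fun a => Submodule.span k (Set.range (v a))) =
      Submodule.span k (Set.range fun I : ∀ a, β a => pf fun a => v a (I a)) := by
  refine le_antisymm (PT_le fun F hF => pf_mem_span v hF) (Submodule.span_le.2 ?_)
  rintro _ ⟨I, rfl⟩
  exact pf_mem fun a => Submodule.subset_span ⟨I a, rfl⟩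

theorem span_basis {V κ : Type} [AddCommGroup V] [Module k V] {L : Submodule k V} (b : Basis κ k L) :
    Submodule.span k (Set.range fun i => (b i : V)) = L := by
  have h := congrArg (Submodule.map L.subtype) b.span_eq
  rwa [Submodule.map_span, ← Set.range_comp, Submodule.map_subtype_top] at h

theorem PT_basis {L : α → Submodule k (X → k)} {β : α → Type} [∀ a, Fintype (β a)] (b : ∀ a, Basis (β a) k (L a)) :
    PT L = Submodule.span k (Set.range fun I : ∀ a, β a => pf fun a => (b a (I a) : X → k)) := by
  have hf : ∀ a, FiniteDimensional k (Submodule.span k (Set.range fun i => (b a i : X → k))) := fun a =>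
    FiniteDimensional.span_of_finite k (Set.finite_range _)
  rw [← PT_span fun a i => (b a i : X → k)]
  congr 1
  funext a
  rw [span_basis]

theorem fd_PT (L : α → Submodule k (X → k)) [∀ a, FiniteDimensional k (L a)] : FiniteDimensional k (PT L) := by
  rw [PT_basis fun a => Module.finBasis k (L a)]
  exact FiniteDimensional.span_of_finite k (Set.finite_range _)

theorem finrank_PT (L : α → Submodule k (X → k)) [∀ a, FiniteDimensional k (L a)] :
    finrank k (PT L) = ∏ a, finrank k (L a) := by
  rw [PT_basis fun a => Module.finBasis k (L a), finrank_span_eq_card (pf_indep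
    (v := fun a i => (Module.finBasis k (L a) i : X → k)) fun a =>
    (Module.finBasis k (L a)).linearIndependent.map' (L a).subtype (L a).ker_subtype)]
  simp

end PT

section group

variable {k α G : Type} [Field k] [Fintype α] [DecidableEq α] [Group G]

theorem RR_pf (h : α → G) (F : α → G → k) : RR h (pf F) = pf fun a => RR (h a) (F a) := rfl

theorem sl_RR (a : α) (g h : α → G) (F : (α → G) → k) : sl a g (RR h F) = RR (h a) (sl a (g * h) F) := by
  funext x
  rw [sl_apply, RR_apply, RR_apply, sl_apply]
  congr 1
  funext c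
  by_cases hc : c = a
  · subst hc; simp
  · simp [hc]

theorem sl_RR_single (a : α) (g : α → G) (x : G) (F : (α → G) → k) :
    sl a g (RR (Pi.mulSingle a x) F) = RR x (sl a g F) := by
  funext y
  rw [sl_apply, RR_apply, RR_apply, sl_apply]
  congr 1
  funext c
  by_cases hc : c = a
  · subst hc; simp
  · simp [hc]

theorem Tr_pf (c : α → G → k) [h : ∀ a, FiniteDimensional k (Tr (c a))] : Tr (pf c) = PT fun a => Tr (c a) :=
  (@PT_span k α G _ _ _ _ (fun _ => G) (fun a h => RR h (c a)) h).symm

end group

/-- dimensions and semilinear maps -/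
theorem finrank_eq_semi {k V V' : Type} [Field k] [AddCommGroup V] [Module k V] [AddCommGroup V'] [Module k V']
    {ω : k → k} (hω : Function.Bijective ω) (τ : V →+ V') (hτ : ∀ c v, τ (c • v) = ω c • τ v)
    {N : Submodule k V} {N' : Submodule k V'} (hinj : ∀ v ∈ N, τ v = 0 → v = 0) (h1 : ∀ v ∈ N, τ v ∈ N')
    (h2 : ∀ w ∈ N', ∃ v ∈ N, τ v = w) : finrank k N = finrank k N' := by
  let j : N →+ N' :=
    { toFun := fun v => ⟨τ v, h1 v v.2⟩
      map_zero' := Subtype.ext (map_zero τ)
      map_add' := fun a b => Subtype.ext (map_add τ _ _) }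
  have hj : Function.Bijective j := by
    refine ⟨(injective_iff_map_eq_zero j).2 fun v hv => Subtype.ext (hinj v v.2 (congrArg Subtype.val hv)), ?_⟩
    rintro ⟨w, hw⟩
    obtain ⟨v, hv, rfl⟩ := h2 w hw
    exact ⟨⟨v, hv⟩, rfl⟩
  exact congrArg Cardinal.toNat
    (rank_eq_of_equiv_equiv ω (AddEquiv.ofBijective j hj) hω fun r m => Subtype.ext (hτ r m))

/-- **necklaces**: the fixed vectors of a permutation of prime order of a basis -/
theorem necklace {k W 𝓘 : Type} [Field k] [AddCommGroup W] [Module k W] [Fintype 𝓘] {p : ℕ} [hp : Fact p.Prime]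
    (b : Basis 𝓘 k W) {π : 𝓘 → 𝓘} (hπ : ∀ I, π^[p] I = I) {Γ : Module.End k W} (hΓ : ∀ I, Γ (b I) = b (π I))
    {E : ℕ} (hE : Nat.card {I // π I = I} ≤ E) :
    p * finrank k (LinearMap.ker (Γ - 1)) + E ≤ Fintype.card 𝓘 + p * E := by
  classical
  have hinj : Function.Injective π := fun I J h => by
    have h1 := congrArg π^[p - 1] h
    rwa [← Function.iterate_succ_apply, ← Function.iterate_succ_apply, Nat.succ_eq_add_one,
      Nat.sub_add_cancel hp.out.pos, hπ, hπ] at h1
  have hc : ∀ w ∈ LinearMap.ker (Γ - 1), ∀ I, b.repr w (π I) = b.repr w I := fun w hw I => by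
    have h1 : Γ w = w := by rwa [LinearMap.mem_ker, LinearMap.sub_apply, sub_eq_zero] at hw
    conv_lhs => rw [← h1, ← b.sum_repr w, map_sum, map_sum, Finsupp.finsetSum_apply]
    rw [Finset.sum_eq_single I (fun J _ hJ => by
      rw [map_smul, hΓ, map_smul, b.repr_self, Finsupp.smul_apply, Finsupp.single_eq_of_ne' (hinj.ne hJ), smul_zero])
      fun h => (h (mem_univ _)).elim, map_smul, hΓ, map_smul, b.repr_self, Finsupp.smul_apply,
      Finsupp.single_eq_same, smul_eq_mul, mul_one]
  let o : 𝓘 → Finset 𝓘 := fun I => (range p).image fun m => π^[m] I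
  have ho1 : ∀ I, o (π I) = o I := fun I => by
    refine Finset.eq_of_subset_of_card_le (fun J hJ => ?_) ?_
    · obtain ⟨m, hm, rfl⟩ := mem_image.1 hJ
      rw [mem_range] at hm
      by_cases h : m + 1 = p
      · exact mem_image.2 ⟨0, mem_range.2 hp.out.pos, by rw [← Function.iterate_succ_apply, Nat.succ_eq_add_one, h, hπ]; rfl⟩
      · exact mem_image.2 ⟨m + 1, mem_range.2 (by omega), rfl⟩
    · rw [← Finset.card_image_of_injective (o I) hinj]
      refine Finset.card_le_card fun J hJ => ?_
      obtain ⟨_, hJ', rfl⟩ := mem_image.1 hJ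
      obtain ⟨m, hm, rfl⟩ := mem_image.1 hJ'
      exact mem_image.2 ⟨m, hm, (Function.iterate_succ_apply π m I).symm.trans (Function.iterate_succ_apply' π m I)⟩
  have ho2 : ∀ m I, o (π^[m] I) = o I := fun m I => by
    induction m with
    | zero => rfl
    | succ m ih => rw [Function.iterate_succ_apply', ho1, ih]
  have hc2 : ∀ w ∈ LinearMap.ker (Γ - 1), ∀ m I, b.repr w (π^[m] I) = b.repr w I := fun w hw m I => by
    induction m with
    | zero => rfl
    | succ m ih => rw [Function.iterate_succ_apply', hc w hw, ih]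
  have h0 : ∀ I, I ∈ o I := fun I => mem_image.2 ⟨0, mem_range.2 hp.out.pos, rfl⟩
  choose r hr using fun O : (univ : Finset 𝓘).image o => (mem_image.1 O.2)
  have h1 : finrank k (LinearMap.ker (Γ - 1)) ≤ ((univ : Finset 𝓘).image o).card := by
    have h2 := LinearMap.finrank_le_finrank_of_injective
      (f := (LinearMap.pi fun O => b.coord (r O)) ∘ₗ (LinearMap.ker (Γ - 1)).subtype) (by
        rw [injective_iff_map_eq_zero]
        intro w hw
        refine Subtype.ext (b.repr.injective (Finsupp.ext fun I => ?_))
        let O : (univ : Finset 𝓘).image o := ⟨o I, mem_image_of_mem _ (mem_univ I)⟩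
        have h3 : I ∈ o (r O) := by rw [(hr O).2]; exact h0 I
        obtain ⟨m, -, hm⟩ := mem_image.1 h3
        rw [← hm, hc2 w.1 w.2, ZeroMemClass.coe_zero, map_zero]
        exact congrFun hw O)
    rwa [Module.finrank_fintype_fun_eq_card, Fintype.card_coe] at h2
  have h2 : p * ((univ.filter fun I => ¬ π I = I).image o).card ≤ (univ.filter fun I => ¬ π I = I).card := by
    refine Finset.mul_card_image_le_card _ _ fun O hO => ?_
    obtain ⟨I, hI, rfl⟩ := mem_image.1 hO
    have hI' := (mem_filter.1 hI).2
    have h3 : Function.minimalPeriod π I = p := Function.minimalPeriod_eq_prime (hπ I) hI'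
    have h4 : (o I).card = p := by
      rw [Finset.card_image_of_injOn, card_range]
      rw [coe_range, ← h3]
      exact Function.iterate_injOn_Iio_minimalPeriod
    refine h4.ge.trans (Finset.card_le_card fun J hJ => ?_)
    obtain ⟨m, -, rfl⟩ := mem_image.1 hJ
    refine mem_filter.2 ⟨mem_filter.2 ⟨mem_univ _, fun h => hI' ?_⟩, ho2 m I⟩
    rw [← Function.iterate_succ_apply' π m I, Function.iterate_succ_apply] at h
    exact hinj.iterate m h
  have h3 : ((univ : Finset 𝓘).image o).card ≤
      (univ.filter fun I => π I = I).card + ((univ.filter fun I => ¬ π I = I).image o).card := by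
    conv_lhs => rw [← Finset.filter_union_filter_not_eq (fun I => π I = I) univ, Finset.image_union]
    exact (Finset.card_union_le _ _).trans (Nat.add_le_add_right Finset.card_image_le _)
  have h4 := Finset.card_filter_add_card_filter_not (s := (univ : Finset 𝓘)) fun I => π I = I
  rw [Finset.card_univ] at h4
  rw [Nat.card_eq_fintype_card, Fintype.card_subtype] at hE
  obtain ⟨q, rfl⟩ : ∃ q, p = q + 1 := ⟨p - 1, (Nat.sub_add_cancel hp.out.pos).symm⟩
  have h5 := Nat.mul_le_mul_left (q + 1) (h1.trans h3)
  have h6 := Nat.mul_le_mul_left q hE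
  nlinarith

end Cfsg.Agent.TwoF.DC.Pw
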