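import Cfsg.Agent.TwoF.DC.Pow.Dat
import Cfsg.Agent.TwoF.DC.St.W
import Cfsg.Agent.TwoF.DC.D1.Main
import Cfsg.Agent.TwoF.DC.D2.Orb
import Cfsg.Agent.TwoF.DC.Mod.Can

/-!
# TwoF, defining characteristic, TH3c (3): modules of the product datum; `line`, `inner` (helper33)
-/

set_option autoImplicit false
set_option linter.unusedSectionVars false
set_option linter.unusedVariables false

namespace Cfsg.Agent.TwoF.DC.Pw

open Module Finset Cfsg.Agent.H45.Uni Cfsg.Agent.H45.UniE Cfsg.Agent.TwoF.Gen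

section gen

variable {p : ℕ} {ι Φ ι' Φ' k G G' L L' : Type} [Fintype ι] [DecidableEq ι] [Fintype Φ] [DecidableEq Φ] [Fintype ι']
  [DecidableEq ι'] [Fintype Φ'] [DecidableEq Φ'] [Field k] [Infinite k] [Group G] [Group G'] [AddCommGroup L]
  [Module k L] [AddCommGroup L'] [Module k L'] {D : RDat p ι Φ k G} {D' : RDat p ι' Φ' k G'} {H : HW D.R p k L}
  {H' : HW D'.R p k L'} (r : H.Rep D) (r' : H'.Rep D')

theorem E_comp (φ : L →ₗ[k] L') {b : Φ} {b' : Φ'} (h : ∀ t v, φ (r.ρ (D.z b t) v) = r'.ρ (D'.z b' t) (φ v)) (n : ℕ)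
    (v : L) : φ (H.E (true, b) n v) = H'.E (true, b') n (φ v) := by
  refine eq_of_sum_pow (k := k) (N := H.bd + H'.bd + n + 1) (a := fun n => φ (H.E (true, b) n v))
    (b := fun n => H'.E (true, b') n (φ v)) (fun t => ?_) (by omega)
  have h1 := h t v
  rw [r.z_sum b t (N := H.bd + H'.bd + n + 1) (by omega), r'.z_sum b' _ (N := H.bd + H'.bd + n + 1) (by omega),
    LinearMap.sum_apply, LinearMap.sum_apply, map_sum] at h1
  simpa only [LinearMap.smul_apply, map_smul] using h1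

theorem E_triv {b : Φ} {v : L} (h : ∀ t, r.ρ (D.z b t) v = v) : H.E (true, b) 1 v = 0 := by
  refine (eq_of_sum_pow (k := k) (N := H.bd + 2) (a := fun n => H.E (true, b) n v)
    (b := fun n => if n = 0 then v else 0) (fun t => ?_) (n := 1) (by omega)).trans (if_neg one_ne_zero)
  have h1 := h t
  rw [r.z_sum b t (N := H.bd + 2) (by omega), LinearMap.sum_apply] at h1
  rw [Finset.sum_eq_single 0 (f := fun n => t ^ n • if n = 0 then v else 0) (fun n _ hn => by rw [if_neg hn, smul_zero])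
    (by simp), if_pos rfl, pow_zero, one_smul]
  exact h1

end gen

variable {p : ℕ} [hp : Fact p.Prime] {α ι Φ k G : Type} [Fintype α] [DecidableEq α] [Fintype ι] [DecidableEq ι]
  [Fintype Φ] [DecidableEq Φ] [Field k] [IsAlgClosed k] [CharP k p] [Group G] {D : RDat p ι Φ k G} (C : Can D)

theorem RR_Lc_zero {F : G → k} (hF : F ∈ Lc D 0) (x : G) : RR x F = F := by
  induction hF using Submodule.span_induction with
  | mem F hF => obtain ⟨h, rfl⟩ := hF; funext g; simp [RR_apply, FDat.cc]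
  | zero => rw [map_zero]
  | add F F' _ _ h1 h2 => rw [map_add, h1, h2]
  | smul a F _ h1 => rw [map_smul, h1]

include C in
theorem fd_Lc {ν : ι → ℕ} (h : ∀ i, ν i < p) : FiniteDimensional k (Lc D ν) := by
  by_cases h0 : ν = 0
  · subst h0
    exact Module.finite_of_finrank_pos (by rw [show finrank k (Lc D 0) = 1 from dd_zero D]; exact one_pos)
  · exact (C.H ν h h0).fd

/-- the root operators on all canonical modules -/
noncomputable def Eo (ν : ι → ℕ) (h : ∀ i, ν i < p) (b : Φ) : Module.End k (Lc D ν) :=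
  if h0 : ν = 0 then 0 else (C.H ν h h0).E (true, b) 1

theorem Eo_ne {ν : ι → ℕ} (h : ∀ i, ν i < p) (h0 : ν ≠ 0) (b : Φ) : Eo C ν h b = (C.H ν h h0).E (true, b) 1 :=
  dif_neg h0

theorem Eo_zero {ν : ι → ℕ} (h : ∀ i, ν i < p) (h0 : ν = 0) (b : Φ) : Eo C ν h b = 0 := dif_pos h0

theorem finrank_ker_Eo {ν : ι → ℕ} (h : ∀ i, ν i < p) (S : Finset Φ) :
    finrank k ↥(⨅ b ∈ S, LinearMap.ker (Eo C ν h b)) = C.u ν S := by
  by_cases h0 : ν = 0
  · have h1 : (⨅ b ∈ S, LinearMap.ker (Eo C ν h b)) = ⊤ := by simp [Eo_zero C h h0]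
    rw [h1, finrank_top]
    subst h0
    rw [C.u_zero]
    exact dd_zero D
  · rw [C.u_eq ν h h0, show (⨅ b ∈ S, LinearMap.ker (Eo C ν h b)) = (C.H ν h h0).kerL S from
      iInf_congr fun b => by rw [Eo_ne C h h0]]

variable (D) in
/-- the highest weight function of a pattern -/
abbrev cw (n : α → ι → ℕ) : (α → G) → k := pf fun a => D.toFDat.cc (n a)

variable {n : α → ι → ℕ} (hn : ∀ a i, n a i < p)

include C hn in
theorem Tr_cw : Tr (cw D n) = PT fun a => Lc D (n a) := @Tr_pf k α G _ _ _ _ _ fun a => fd_Lc C (hn a)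

include C hn in
theorem fd_cw : FiniteDimensional k (Tr (cw D n)) := by
  rw [Tr_cw C hn]
  exact @fd_PT k α G _ _ _ _ _ fun a => fd_Lc C (hn a)

include C hn in
theorem finrank_cw : finrank k (Tr (cw D n)) = ∏ a, dd D (n a) := by
  rw [Tr_cw C hn]
  exact @finrank_PT k α G _ _ _ _ _ fun a => fd_Lc C (hn a)

include C hn in
theorem pf_mem_cw {F : α → G → k} (h : ∀ a, F a ∈ Lc D (n a)) : pf F ∈ Tr (cw D n) := by
  rw [Tr_cw C hn]; exact pf_mem h

/-- slices -/
def slL (a : α) (g : α → G) : Tr (cw D n) →ₗ[k] Lc D (n a) :=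
  ((sl a g).domRestrict _).codRestrict _ fun F => mem_PT.1 ((Tr_cw C hn).le F.2) a g

theorem slL_coe (a : α) (g : α → G) (F : Tr (cw D n)) : (slL C hn a g F).1 = sl a g F.1 := rfl

theorem exists_slL (a : α) (F : Lc D (n a)) : ∃ w, slL C hn a 1 w = F := by
  refine ⟨⟨pf (Function.update (fun c => D.toFDat.cc (n c)) a F.1), pf_mem_cw C hn fun c => ?_⟩, Subtype.ext ?_⟩
  · by_cases h : c = a
    · subst h; rw [Function.update_self]; exact F.2
    · rw [Function.update_of_ne h]; exact self_mem_Tr _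
  · rw [slL_coe, sl_pf, Function.update_self, Finset.prod_eq_one, one_smul]
    intro c hc
    rw [Function.update_of_ne (Finset.ne_of_mem_erase hc)]
    exact D.toFDat.cc_one _

variable (D n) in
/-- the tensor product as a module for the product datum -/
structure PMod where
  H : HW (pw α D).R p k (Tr (cw D n))
  r : H.Rep (pw α D)
  ρ_eq : r.ρ = ρTr (cw D n)
  lam : H.lam = fun x => n x.1 x.2

include hn in
theorem exists_pmod (h0 : n ≠ 0) : Nonempty (PMod D n) := by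
  obtain ⟨C'⟩ := boxHW p (α × ι) (α × Φ) k (α → G) (pw α D)
  have h1 : (fun x : α × ι => n x.1 x.2) ≠ 0 := fun h => h0 (funext fun a => funext fun i => congrFun h (a, i))
  have key : ∀ c, c = (pw α D).toFDat.cc (fun x => n x.1 x.2) → ∃ (H : HW (pw α D).R p k (Tr c)) (r : H.Rep (pw α D)),
      r.ρ = ρTr c ∧ H.lam = fun x => n x.1 x.2 := by
    rintro _ rfl
    exact ⟨C'.H _ (fun x => hn x.1 x.2) h1, C'.rep _ _ _, C'.ρ_eq _ _ _, C'.lam _ _ _⟩
  obtain ⟨H, r, h2, h3⟩ := key _ (pw_cc D n).symm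
  exact ⟨⟨H, r, h2, h3⟩⟩

theorem PMod.slL_E (P : PMod D n) (a : α) (g : α → G) (b : Φ) (v : Tr (cw D n)) :
    slL C hn a g (P.H.E (true, (a, b)) 1 v) = Eo C (n a) (hn a) b (slL C hn a g v) := by
  by_cases h0 : n a = 0
  · rw [Eo_zero C _ h0, E_triv P.r fun t => ?_, map_zero, LinearMap.zero_apply]
    rw [P.ρ_eq]
    refine Subtype.ext (funext fun g => ?_)
    have h1 : sl a g v.1 ∈ Lc D 0 := h0 ▸ (slL C hn a g v).2
    have h2 := sl_RR_single a g (D.z b t) v.1
    rw [RR_Lc_zero h1] at h2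
    exact (sl_self a g _).symm.trans ((congrFun h2 (g a)).trans (sl_self a g _))
  · rw [Eo_ne C _ h0]
    refine E_comp P.r (C.rep _ _ h0) (slL C hn a g) (fun t v => ?_) 1 v
    rw [P.ρ_eq, C.ρ_eq]
    exact Subtype.ext (sl_RR_single a g (D.z b t) v.1)

theorem fa_pw (hF : C.Fa) : (pw α D).Fa := by
  rintro ⟨a, b⟩
  obtain ⟨ν, h, h0, h1⟩ := hF b
  have hn : ∀ c i, (Pi.single a ν : α → ι → ℕ) c i < p := fun c i => by
    by_cases hc : c = a
    · rw [hc, Pi.single_eq_same]; exact h i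
    · rw [Pi.single_eq_of_ne hc]; exact hp.out.pos
  obtain ⟨P⟩ := exists_pmod (D := D) hn fun e => h0 (by simpa using congrFun e a)
  refine ⟨_, inferInstance, inferInstance, P.H, P.r, fun h2 => ?_⟩
  have key : ∀ ν', ν' = ν → ∀ h', Eo C ν' h' b ≠ 0 := by
    rintro _ rfl h'
    rwa [Eo_ne C h' h0]
  refine key _ (by simp) (hn a) (LinearMap.ext fun F => ?_)
  obtain ⟨w, rfl⟩ := exists_slL C hn a F
  rw [← P.slL_E, h2, LinearMap.zero_apply, map_zero, LinearMap.zero_apply]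

include hn in
theorem PMod.kerL_le (P : PMod D n) (S : Finset (α × Φ)) : finrank k (P.H.kerL S) ≤ ∏ a, C.u (n a) (part S a) := by
  have hf := fun a => fd_Lc C (hn a)
  have h1 : (P.H.kerL S).map (Tr (cw D n)).subtype ≤
      PT fun a => (⨅ b ∈ part S a, LinearMap.ker (Eo C (n a) (hn a) b)).map (Lc D (n a)).subtype := by
    rintro _ ⟨v, hv, rfl⟩
    refine mem_PT.2 fun a g => ⟨slL C hn a g v, ?_, rfl⟩
    simp only [SetLike.mem_coe, Submodule.mem_iInf, LinearMap.mem_ker]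
    intro b hb
    rw [← P.slL_E, P.H.mem_kerL.1 hv _ (mem_part.1 hb), map_zero]
  have := fd_PT fun a => (⨅ b ∈ part S a, LinearMap.ker (Eo C (n a) (hn a) b)).map (Lc D (n a)).subtype
  have h2 := Submodule.finrank_mono h1
  rw [Submodule.finrank_map_subtype_eq, finrank_PT] at h2
  simpa only [Submodule.finrank_map_subtype_eq, finrank_ker_Eo] using h2

theorem PMod.fx_le (P : PMod D n) {B : Subgroup (α → G)} (hB : B ≤ (pw α D).U) :
    finrank k (fx P.r.ρ B) ≤ finrank k (P.H.kerOp ((pw α D).ld B)) := by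
  have := P.H.fd
  have h := (boxDeg1 p _ _ k _ (pw α D)).ker _ P.H P.r B hB 1 P.H.lev_one 1 (one_mem _)
  exact (Submodule.finrank_mono (le_inf le_rfl fun v _ => by simp)).trans (h.trans (Submodule.finrank_mono inf_le_left))

/-! ### the finite group -/

variable {T S : Type} [Group T] [Finite T] [Group S] (M : Std D T S)

/-- the graph part of `aut γ j` in position `a` -/
def dl (γ : M.Gr) (j : ℕ) (a : Fin M.f) : M.Gr := γ * (M.σ ^ ((a + j) / M.f))⁻¹

theorem aut_ms (γ : M.Gr) (j : ℕ) (c : Fin M.f) (x : G) :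
    M.aut γ j (ms c x) = ms ((M.rot j).symm c) (M.gr (dl M γ j ((M.rot j).symm c)) x) := by
  funext a
  rw [M.aut_apply, ← M.rot_apply]
  by_cases h : a = (M.rot j).symm c
  · subst h; rw [Equiv.apply_symm_apply, ms_self, ms_self, dl]
  · rw [ms_ne h, ms_ne fun e => h (by rw [← e, Equiv.symm_apply_apply]), map_one]

/-- the permutation of the roots -/
noncomputable def θΦ (γ : M.Gr) (j : ℕ) : Equiv.Perm (Fin M.f × Φ) :=
  Equiv.prodShear (M.rot j).symm fun c => M.gΦ (dl M γ j ((M.rot j).symm c))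

/-- the endomorphism of `G ^ f` which fixes `T` -/
def Th : (Fin M.f → G) →* (Fin M.f → G) := (M.aut M.σ (M.f - 1)).comp (M.Fr.compLeft (Fin M.f))

theorem Th_ΦT (s : T) : Th M (M.ΦT s) = M.ΦT s := by
  obtain ⟨s', h⟩ := M.φ_Fr s
  have h1 : M.Fr.compLeft (Fin M.f) (M.ΦT s) = M.ΦT s' := funext fun a => by
    show M.Fr (M.ΦT s a) = _
    rw [M.ΦT_apply, M.ΦT_apply, h, ← Function.iterate_succ_apply' M.Fr, Function.iterate_succ_apply]
  rw [Th, MonoidHom.comp_apply, h1]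
  refine M.aut_ΦT _ _ ?_
  rw [h, ← Function.iterate_succ_apply, Nat.succ_eq_add_one, Nat.sub_add_cancel M.f_pos, M.φ_fix]

theorem Th_Tw : (pw (Fin M.f) D).Tw 1 (Th M) (θΦ M M.σ (M.f - 1))
    fun y => M.ε (dl M M.σ (M.f - 1) ((M.rot (M.f - 1)).symm y.1)) y.2 where
  z := by
    rintro ⟨c, b⟩ t
    have h1 : M.Fr.compLeft (Fin M.f) (ms c (D.z b t)) = ms c (D.z b (t ^ p)) := funext fun a => by
      show M.Fr (ms c (D.z b t) a) = _
      by_cases h : a = c
      · rw [h, ms_self, ms_self, M.Fr_z]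
      · rw [ms_ne h, ms_ne h, map_one]
    rw [pw_z, Th, MonoidHom.comp_apply, h1, aut_ms, M.gr_z', pow_one]
    rfl
  ht := by
    rintro ⟨c, b⟩
    exact M.ht_gr _ _

theorem ΦT_inj : Function.Injective M.ΦT := fun s s' h => M.φ_inj (by
  have h1 := congrFun h ⟨0, M.f_pos⟩
  rwa [M.ΦT_apply, M.ΦT_apply] at h1)

theorem ΦT_U {u : T} (hu : u ∈ M.E.U) : M.ΦT u ∈ (pw (Fin M.f) D).U := mem_pw_U D fun a => by
  have h := M.tw_U 1 a (M.φ_U hu)
  rwa [M.tw_apply, M.gr_one, ← M.ΦT_apply] at h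

theorem map_le_U {B : Subgroup T} (hB : B ≤ M.E.U) : B.map M.ΦT ≤ (pw (Fin M.f) D).U := by
  rintro _ ⟨u, hu, rfl⟩
  exact ΦT_U M (hB hu)

theorem card_le (hF : C.Fa) {B : Subgroup T} (hB : B ≤ M.E.U) :
    Nat.card B ≤ p ^ finrank k ((pw (Fin M.f) D).ld (B.map M.ΦT)) := by
  have h := ((boxDeg1 p _ _ k _ (pw (Fin M.f) D)).card (fa_pw C hF) 1 _ _ _ (Th_Tw M) one_pos _ (map_le_U M hB) 1
    (one_mem _) (by rintro _ ⟨s, -, rfl⟩; rw [Th_ΦT, one_mul, inv_one, mul_one])).2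
  rwa [one_mul, Subgroup.card_map_of_injective (ΦT_inj M)] at h

theorem PMod.finrank_fxW {n : Fin M.f → ι → ℕ} (P : PMod D n) (B : Subgroup T) :
    finrank k (M.fxW n B) = finrank k (fx P.r.ρ (B.map M.ΦT)) := by
  have h : fx (M.ρW n) B = fx (ρTr (cw D n)) (B.map M.ΦT) :=
    Submodule.ext fun F => ⟨by rintro h _ ⟨b, hb, rfl⟩; exact h b hb, fun h b hb => h _ ⟨b, hb, rfl⟩⟩
  rw [← M.finrank_fxW, P.ρ_eq, h]
  rfl

include C in
theorem finrank_fxW_zero (B : Subgroup T) : finrank k (M.fxW 0 B) ≤ 1 := by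
  have hn : ∀ a i, (0 : Fin M.f → ι → ℕ) a i < p := fun _ _ => hp.out.pos
  have : FiniteDimensional k (M.Wc 0) := fd_cw C hn
  refine (Submodule.finrank_mono (inf_le_left : M.fxW 0 B ≤ M.Wc 0)).trans ((finrank_cw C hn).trans ?_).le
  exact Finset.prod_eq_one fun a _ => dd_zero D

theorem line (hF : C.Fa) {n : Fin M.f → ι → ℕ} (hn : ∀ a i, n a i < p) :
    M.fxW n M.E.U ≤ Submodule.span k {M.cP n} := by
  have : FiniteDimensional k (M.Wc n) := fd_cw C hn
  have : FiniteDimensional k (M.fxW n M.E.U) := Submodule.finiteDimensional_of_le (inf_le_left : _ ≤ M.Wc n)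
  have h1 : finrank k (M.fxW n M.E.U) ≤ 1 := by
    by_cases h0 : n = 0
    · subst h0; exact finrank_fxW_zero C M _
    obtain ⟨P⟩ := exists_pmod (D := D) hn h0
    have := P.H.fd
    have h2 := card_le C M hF le_rfl
    rw [M.card_U, ← pow_mul, Nat.pow_le_pow_iff_right hp.out.one_lt] at h2
    have h3 : (pw (Fin M.f) D).ld (M.E.U.map M.ΦT) = ⊤ := Submodule.eq_top_of_finrank_eq (le_antisymm
      (Submodule.finrank_le _) (by rwa [Module.finrank_fintype_fun_eq_card, Fintype.card_prod, Fintype.card_fin]))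
    rw [P.finrank_fxW M, ← P.H.top]
    refine (P.fx_le (map_le_U M le_rfl)).trans (Submodule.finrank_mono fun v hv => P.H.curtis v fun b => ?_)
    have h4 := P.H.mem_kerOp.1 hv (Pi.single b 1) (by rw [h3]; trivial)
    rwa [P.H.op_single, one_smul] at h4
  refine (Submodule.eq_of_le_of_finrank_le ?_ ?_).ge
  · rw [Submodule.span_singleton_le_iff_mem]
    exact ⟨self_mem_Tr _, fun u hu => funext fun g => M.cP_U n hu g⟩
  · rwa [finrank_span_singleton fun h => one_ne_zero ((M.cP_one n).symm.trans (congrFun h 1))]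

theorem inner (hF : C.Fa) (B : Subgroup T) (hB : B ≤ M.E.U) (hc : ∀ x ∈ B, ∀ y ∈ B, x * y = y * x) :
    ∃ Sg : Fin M.f → Finset Φ, Nat.card B ≤ p ^ ∑ a, (Sg a).card ∧ (∀ a, D.R.Ab p (Sg a) ∧ D.R.Idl p (Sg a)) ∧
      ∀ n ∈ M.pats, finrank k (M.fxW n B) ≤ ∏ a, C.u (n a) (Sg a) := by
  obtain ⟨S, h1, h2, h3, h4⟩ := (boxDeg2 p _ _ k _ (pw (Fin M.f) D) (fa_pw C hF)).idl _
    ((boxDeg1 p _ _ k _ (pw (Fin M.f) D)).com _ (map_le_U M hB) (by
      rintro _ ⟨x, hx, rfl⟩ _ ⟨y, hy, rfl⟩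
      rw [← map_mul, hc x hx y hy, map_mul]))
  refine ⟨part S, (card_le C M hF hB).trans (Nat.pow_le_pow_right hp.out.pos (h1.ge.trans (card_part S))),
    fun a => ⟨part_ab D.R h2 a, part_idl D.R h3 a⟩, fun n hn => ?_⟩
  by_cases h0 : n = 0
  · subst h0
    exact (finrank_fxW_zero C M B).trans (Finset.prod_eq_one fun a _ => C.u_zero _).ge
  obtain ⟨P⟩ := exists_pmod (D := D) (M.mem_pats.1 hn) h0
  rw [P.finrank_fxW M]
  exact (P.fx_le (map_le_U M hB)).trans ((h4 _ P.H P.r).trans (P.kerL_le C (M.mem_pats.1 hn) S))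

end Cfsg.Agent.TwoF.DC.Pw
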